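import Cfsg.Agent.H256.SporC
import Cfsg.Agent.H603.SporElim
import Cfsg.Agent.KFacts.Co1.CaseM_m3
import Cfsg.Agent.KFacts.SuzSheetM
import Cfsg.Agent.KFacts.CoTwo.QuotInst
import Cfsg.Agent.Co2Type.Setup
import Cfsg.Agent.CoOneType.Thirteen
import Cfsg.Agent.KFacts.Baby.RowB_m3
import Cfsg.Agent.KFacts.MonsterE
import Cfsg.Agent.MonsterU.Uncond
import Cfsg.Agent.H850.MonSub
import Cfsg.Agent.Prune
set_option linter.all false
prune_inst 0x7f00000000000000000000000000000000000000000000000000000000000000000000000000000000000000000000000000000000000000000000000000000000000000000000000000000000000000003fffffffffffffffffffffffffffbeffbdffffffff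
open scoped Cfsg.Agent.FastGrp

-- part: H256/RowS3
section
/-!
# The `Z*_p` theorem, `p` odd: the rows `Suz`, `Co1`, `Co2`, `Th`
-/

set_option autoImplicit false

namespace Cfsg.Agent.H256.RowSpor

open Subgroup Cfsg Cfsg.Agent.H256.ZBasic Cfsg.Agent.H256.ZRed Cfsg.Agent.H256.ZTool
  Cfsg.Agent.H256.OddInner Cfsg.Agent.H256.Spor

universe u v w

variable {K : Type v} [Group K] {p : ℕ}

theorem row_congr {L : Type w} [Group L] (e : K ≃* L) (h : Row.{u} p L) : Row.{u} p K :=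
  fun x h' e' => h x h' (e'.trans e)

section Suz

open Cfsg.Agent.KFacts Cfsg.Agent.SuzThree.CentA Cfsg.Agent.SuzThree.QZero

theorem suz_model (hp : p.Prime) (hp2 : p ≠ 2) : Row.{u} p Spor.Suz := by
  have hf : Fact p.Prime := ⟨hp⟩
  refine @row_spor Spor.Suz _ p hp hp2 (OddInner.suz ⟨MulEquiv.refl _⟩) fun hfin _ _ _ hc y hy => ?_
  rw [NotCT.Orders.suz ⟨MulEquiv.refl _⟩] at hc
  obtain ⟨q, hq, hqp⟩ := mem_of_cube hp [(2, 13), (3, 7), (5, 2), (7, 1), (11, 1), (13, 1)] (by decide +kernel)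
    (by norm_num) ((dvd_pow_self p three_ne_zero).trans hc)
  have hs := SuzSheetE.sheetE
  have hC : C1 = centralizer ({z0} : Set Spor.Suz) := SuzSheetM.C1_eq
  refine @false_of_simple_quot Spor.Suz _ p y hfin hf hy hp2 z0 hs.zz hs.z1 hs.syl _ _ (centralizer_ne_top hy hs.z1)
    hs.cen (idx_of_rel (Or.inl (relIndex_self _))) hs.RP hs.R2 hs.Rn hs.perf (fun N hN hR hn => ?_) ?_
  · rw [← hC] at hN hn ⊢
    exact SuzSheetM.normal_cases hN hR hn
  · rw [← hC, SuzCent.card_C1]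
    fin_cases hq <;> simp only at hqp <;> subst hqp <;>
      first | exact absurd rfl hp2 | (norm_num; done) | exact absurd hc (by norm_num)

end Suz

theorem suz (h : Spor.IsoSuz K) (hp : p.Prime) (hp2 : p ≠ 2) : Row.{u} p K := by
  obtain ⟨e⟩ := h
  exact row_congr e (suz_model hp hp2)

section Co1

open Cfsg.Agent.CoOneType.SignFacts (sup mem_sup notMem_sup wt sup_mem wt_cases sup_add_allOne
  wt_add_allOne sign_allOne_comm wt_eq_of_conj)
open Cfsg.Agent.CoOneType.CentOctad (C0 mem_C0 sign_mem perm_mem xi_mem)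
open Cfsg.Agent.CoOneType.ClosingFacts (mk mk_mul mk_inv exists_mk mk_eq_one mk_eq mk_add_allOne
  isConj_octad)
open Cfsg.Agent.KFacts.Co1.OctPts Cfsg.Agent.KFacts.Co1.RHat Cfsg.Agent.KFacts.Co1.RIrr
open Cfsg.Agent.KFacts.Co1.Perf Cfsg.Agent.KFacts.Co1.InCo1 Cfsg.Agent.KFacts.Co1
open Cfsg.Agent.SporadicA Cfsg.Agent.SporadicA.Co0Mono Cfsg.Agent.SporadicA.Co1Simple
open Cfsg.Agent.SporadicStructure

/-- primes dividing the order of the stabilizer of an octad -/
theorem co1_dvd [Finite Spor.Co1] {o : golayCode} (ho : wt o = 8) (hp : p.Prime) (hp2 : p ≠ 2) (hd : p ∣ 322560) :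
    p ∣ Nat.card (centralizer ({_root_.Cfsg.Agent.CoOneType.ClosingFacts.mk (signCo0 o)} : Set Spor.Co1)) := by
  have hf : Fact p.Prime := ⟨hp⟩
  have : Finite (So o) := Nat.finite_of_card_ne_zero (by rw [card_So ho]; norm_num)
  obtain ⟨s, hs⟩ := exists_prime_orderOf_dvd_card' (G := So o) p (by rw [card_So ho]; exact hd)
  have hs1 : (s : M24) ^ p = 1 := by
    rw [← Subgroup.coe_pow, ← hs, pow_orderOf_eq_one, Subgroup.coe_one]
  have hsne : (s : M24) ≠ 1 := by
    intro h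
    have h1 : s = 1 := Subtype.ext h
    rw [h1, orderOf_one] at hs
    exact hp.ne_one hs.symm
  have hmem : _root_.Cfsg.Agent.CoOneType.ClosingFacts.mk (permCo0 (s : M24)) ∈ centralizer ({_root_.Cfsg.Agent.CoOneType.ClosingFacts.mk (signCo0 o)} : Set Spor.Co1) :=
    (mem_cent ho _).2 (perm_mem s.2)
  have hpow : _root_.Cfsg.Agent.CoOneType.ClosingFacts.mk (permCo0 (s : M24)) ^ p = 1 := by
    show (pr (permCo0 (s : M24))) ^ p = 1
    rw [← map_pow, ← map_pow, hs1, map_one, map_one]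
  have hne : _root_.Cfsg.Agent.CoOneType.ClosingFacts.mk (permCo0 (s : M24)) ≠ 1 := by
    intro h
    rcases (mk_eq_one _).1 h with h1 | h1
    · exact hsne (Cfsg.Agent.CoOneType.Thirteen.permCo0_injective (by rw [h1, map_one]))
    · have h2 : permCo0 ((s : M24) * s) = 1 := by
        rw [map_mul, h1, ← signCo0_add]
        have : allOne + allOne = 0 := by
          apply Subtype.ext
          funext i
          exact CharTwo.add_self_eq_zero _
        rw [this, signCo0_zero]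
      have h3 : (s : M24) * s = 1 := Cfsg.Agent.CoOneType.Thirteen.permCo0_injective (by rw [h2, map_one])
      have h4 : orderOf (s : M24) ∣ 2 := orderOf_dvd_of_pow_eq_one (by rw [pow_two, h3])
      have h5 : orderOf (s : M24) = p := orderOf_eq_prime hs1 hsne
      rw [h5] at h4
      exact hp2 ((Nat.prime_dvd_prime_iff_eq hp Nat.prime_two).1 h4)
  have ho' : orderOf (⟨_, hmem⟩ : centralizer ({_root_.Cfsg.Agent.CoOneType.ClosingFacts.mk (signCo0 o)} : Set Spor.Co1)) = p := by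
    rw [Subgroup.orderOf_mk]
    exact orderOf_eq_prime hpow hne
  rw [← ho']
  exact _root_.orderOf_dvd_natCard _

theorem co1_model (hp : p.Prime) (hp2 : p ≠ 2) : Row.{u} p Spor.Co1 := by
  have hf : Fact p.Prime := ⟨hp⟩
  refine @row_spor Spor.Co1 _ p hp hp2 (OddInner.co1 ⟨MulEquiv.refl _⟩) fun hfin _ _ _ hc y hy => ?_
  rw [NotCT.Orders.co1 ⟨MulEquiv.refl _⟩] at hc
  obtain ⟨q, hq, hqp⟩ := mem_of_cube hp [(2, 21), (3, 9), (5, 4), (7, 2), (11, 1), (13, 1), (23, 1)]
    (by decide +kernel) (by norm_num) ((dvd_pow_self p three_ne_zero).trans hc)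
  obtain ⟨o, ho⟩ := Cfsg.Agent.CoOneType.ClosingCo1.exists_octad
  have hs := CaseM.sheetE ho
  refine @false_of_simple_quot Spor.Co1 _ p y hfin hf hy hp2 _ hs.zz hs.z1 hs.syl _ _ (centralizer_ne_top hy hs.z1)
    hs.cen (idx_of_rel (Or.inl (relIndex_self _))) hs.RP hs.R2 hs.Rn hs.perf (fun N hN hR hn => ?_) ?_
  · exact (CaseM.normal ho N hN hR hn).imp_left fun h => h.le
  · refine co1_dvd ho hp hp2 ?_
    fin_cases hq <;> simp only at hqp <;> subst hqp <;>
      first | exact absurd rfl hp2 | (norm_num; done) | exact absurd hc (by norm_num)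

end Co1

theorem co1 (h : Spor.IsoCo1 K) (hp : p.Prime) (hp2 : p ≠ 2) : Row.{u} p K := by
  obtain ⟨e⟩ := h
  exact row_congr e (co1_model hp hp2)

section Co2

open Cfsg.Agent.KFacts.CoTwo

theorem co2_model (hp : p.Prime) (hp2 : p ≠ 2) : Row.{u} p Spor.Co2 := by
  have hf : Fact p.Prime := ⟨hp⟩
  refine @row_spor Spor.Co2 _ p hp hp2 (OddInner.co2 ⟨MulEquiv.refl _⟩) fun hfin _ _ _ hc y hy => ?_
  rw [NotCT.Orders.co2 ⟨MulEquiv.refl _⟩] at hc
  obtain ⟨q, hq, hqp⟩ := mem_of_cube hp [(2, 18), (3, 6), (5, 3), (7, 1), (11, 1), (23, 1)] (by decide +kernel)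
    (by norm_num) ((dvd_pow_self p three_ne_zero).trans hc)
  have D := QuotInst.dataT
  have := D.simple
  obtain ⟨π, hπ, hker⟩ := D.quot
  refine false_of_large hy hp2 D.large D.nonab D.odd π hπ (fun c => (hker c).1) ?_
  have h1 : Nat.card Quot.Sp62 = 1451520 := Cfsg.Agent.Co2Type.Setup.card_sp6
  rw [h1]
  fin_cases hq <;> simp only at hqp <;> subst hqp <;>
    first | exact absurd rfl hp2 | (norm_num; done) | exact absurd hc (by norm_num)

end Co2

theorem co2 (h : Spor.IsoCo2 K) (hp : p.Prime) (hp2 : p ≠ 2) : Row.{u} p K := by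
  obtain ⟨e⟩ := h
  exact row_congr e (co2_model hp hp2)

section Th

open Cfsg.Agent.KFacts.Th

theorem th_model (hp : p.Prime) (hp2 : p ≠ 2) : Row.{u} p Spor.Th := by
  have hf : Fact p.Prime := ⟨hp⟩
  refine @row_spor Spor.Th _ p hp hp2 (OddInner.th ⟨MulEquiv.refl _⟩) fun hfin _ _ _ hc y hy => ?_
  rw [NotCT.Orders.th ⟨MulEquiv.refl _⟩] at hc
  obtain ⟨q, hq, hqp⟩ := mem_of_cube hp [(2, 15), (3, 10), (5, 3), (7, 2), (13, 1), (19, 1), (31, 1)]
    (by decide +kernel) (by norm_num) ((dvd_pow_self p three_ne_zero).trans hc)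
  have hs : IsSimpleGroup (alternatingGroup (Fin 9)) := alternatingGroup.isSimpleGroup (by simp)
  obtain ⟨π, D⟩ := Main.exists_data Main.ctx
  refine false_of_large hy hp2 D.large D.nab D.odd π D.surj (fun c => (D.ker c).1) ?_
  rw [nat_card_alternatingGroup, Nat.card_eq_fintype_card, Fintype.card_fin]
  fin_cases hq <;> simp only at hqp <;> subst hqp <;>
    first | exact absurd rfl hp2 | decide | exact absurd hc (by norm_num)

end Th

theorem th (h : Spor.IsoTh K) (hp : p.Prime) (hp2 : p ≠ 2) : Row.{u} p K := by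
  obtain ⟨e⟩ := h
  exact row_congr e (th_model hp hp2)

end Cfsg.Agent.H256.RowSpor
end

-- part: H256/RowS4
section
/-!
# The `Z*_p` theorem, `p` odd: the rows `B`, `M`
-/

set_option autoImplicit false

namespace Cfsg.Agent.H256.RowSpor

open Subgroup Cfsg Cfsg.Agent.H256.ZBasic Cfsg.Agent.H256.ZRed Cfsg.Agent.H256.ZTool
  Cfsg.Agent.H256.OddInner Cfsg.Agent.H256.Spor

universe u v w

variable {K : Type v} [Group K] {p : ℕ}

section B

open Cfsg.Agent.BabyM Cfsg.Agent.BabyM.Model Cfsg.Agent.BabyU.ClosModel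
open Cfsg.Agent.BabyU.ClosLane Cfsg.Agent.KFacts

theorem b_model (hp : p.Prime) (hp2 : p ≠ 2) (hB : Spor.IsoB Inst.M.G) : Row.{u} p Inst.M.G := by
  have hf : Fact p.Prime := ⟨hp⟩
  refine @row_spor Inst.M.G _ p hp hp2 (OddInner.b hB) fun hfin _ _ _ hc y hy => ?_
  rw [NotCT.Orders.b hB] at hc
  obtain ⟨q, hq, hqp⟩ := mem_of_cube hp [(2, 41), (3, 13), (5, 6), (7, 2), (11, 1), (13, 1), (17, 1), (19, 1),
    (23, 1), (31, 1), (47, 1)] (by decide +kernel) (by norm_num) ((dvd_pow_self p three_ne_zero).trans hc)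
  have := A.grp.simple
  obtain ⟨π, hπ, hker⟩ := Baby.Inst.quot A
  refine false_of_large hy hp2 (Baby.Inst.large A) (Baby.Inst.nonab A) (Baby.Inst.odd_index A) π hπ
    (fun c => (hker c).1) ?_
  rw [A.grp.card]
  fin_cases hq <;> simp only at hqp <;> subst hqp <;>
    first | exact absurd rfl hp2 | (norm_num; done) | exact absurd hc (by norm_num)

end B

theorem b (h : Spor.IsoB K) (hp : p.Prime) (hp2 : p ≠ 2) : Row.{u} p K := by
  obtain ⟨e⟩ := Cfsg.Agent.KFacts.Baby.RowB.exists_iso h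
  obtain ⟨f⟩ := h
  exact row_congr e.symm (b_model hp hp2 ⟨e.trans f⟩)

section M

open Cfsg.Spor (Co1)
open Cfsg.Agent.MonsterX Cfsg.Agent.MonsterX.Model Cfsg.Agent.MonsterX.MainSimple Cfsg.Agent.MonsterX.MainBasic

theorem m_model {W : Type} [AddCommGroup W] [Module ℚ W] {M : MData W} (hG : MGroup M Co1) (hR : MRep M)
    (hL : MLat M) (hO : MOrbit M) (hT : MTrans M) (hM : Spor.IsoM M.G) (hp : p.Prime) (hp2 : p ≠ 2) :
    Row.{u} p M.G := by
  have hf : Fact p.Prime := ⟨hp⟩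
  refine @row_spor M.G _ p hp hp2 (OddInner.m hM) fun hfin _ _ _ hc y hy => ?_
  rw [NotCT.Orders.m hM] at hc
  obtain ⟨q, hq, hqp⟩ := mem_of_cube hp [(2, 46), (3, 20), (5, 9), (7, 6), (11, 2), (13, 3), (17, 1), (19, 1),
    (23, 1), (29, 1), (31, 1), (41, 1), (47, 1), (59, 1), (71, 1)] (by decide +kernel) (by norm_num)
    ((dvd_pow_self p three_ne_zero).trans hc)
  have hco := Cfsg.Agent.KFacts.MonsterE.simple_Co1
  obtain ⟨π, D⟩ := Cfsg.Agent.KFacts.MonsterE.data_model hG hR hL hO hT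
  refine false_of_large hy hp2 D.large D.nab D.odd π D.surj (fun c => (D.ker c).1) ?_
  rw [NotCT.Orders.co1 (K := Co1) ⟨MulEquiv.refl _⟩]
  fin_cases hq <;> simp only at hqp <;> subst hqp <;>
    first | exact absurd rfl hp2 | (norm_num; done) | exact absurd hc (by norm_num)

theorem m (h : Spor.IsoM K) (hp : p.Prime) (hp2 : p ≠ 2) : Row.{u} p K := by
  obtain ⟨e⟩ := h
  obtain ⟨f⟩ := Cfsg.Agent.MonsterP.Equiv.equiv
  exact row_congr (e.trans f) (m_model Instance.mGroup Instance.mRep Instance.mLat InstanceFinal.mOrbit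
    Instance.mTrans ⟨f.symm⟩ hp hp2)

end M

end Cfsg.Agent.H256.RowSpor
end
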