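import Cfsg.Agent.OddHalf.Quat.NoThreeSpor.J2_mg
import Cfsg.Agent.OddHalf.Quat.NoThreeSpor.J1
import Cfsg.Prelude.Def_Classification2
import Cfsg.Agent.S2065
import Cfsg.Agent.H28.Frob_m3
import Cfsg.Prelude.Def_KGroupFacts
import Cfsg.Agent.KFacts.AutLarge
import Cfsg.Agent.KFacts.LargeE
import Cfsg.Agent.LargeExtra.Base
import Cfsg.Agent.FastGrp
import Cfsg.Agent.Prune
set_option linter.all false

section
prune_inst 0x7f00000000000000000000000000000000000000000000000000000000000000000000000000000000000000000000000000000000000000000000000000000000000000000000000000000000000000003fffffffffffffffffffffffffffbeffbdffffffff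

-- part: H256/OddInner
section
set_option linter.all false
open scoped Cfsg.Agent.FastGrp

-- part: OddHalf/Quat/NoThreeSpor/All
section
/-!
# Node Q: `NoThree` for the sporadic groups
-/

set_option autoImplicit false

namespace Cfsg.Agent.OddHalf.Quat.NoThreeSpor

end Cfsg.Agent.OddHalf.Quat.NoThreeSpor
end

-- part: H256/OddInner
section
/-!
# Automorphisms of odd order of the sporadic groups are inner

* `OI K` : every automorphism of odd order of `K` is inner;
* `OI.congr`, `OI.of_sq`, `OI.of_inner`, `OI.of_index`, `OI.of_mul_inv`;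
* `sporadic` : **`OI K` for the 26 sporadic groups `K`**.

(the same sources as `OddHalf.Quat.NoThreeSpor`)
-/

set_option autoImplicit false

namespace Cfsg.Agent.H256.OddInner

open Subgroup Cfsg Cfsg.Agent.OddHalf.Quat

/-- every automorphism of odd order is inner -/
def OI (K : Type*) [Group K] : Prop := ∀ α : MulAut K, Odd (orderOf α) → ∃ g : K, α = MulAut.conj g

variable {K : Type*} [Group K]

theorem OI.congr {L : Type*} [Group L] (e : K ≃* L) (h : OI L) : OI K := by
  intro α hα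
  obtain ⟨g, hg⟩ := h (MulAut.congr e α) (by rwa [MulEquiv.orderOf_eq])
  refine ⟨e.symm g, ?_⟩
  ext y
  have h1 := congrArg (fun β : MulAut L => e.symm (β (e y))) hg
  simp only [MulAut.congr, MulEquiv.coe_mk, Equiv.coe_fn_mk, MulEquiv.trans_apply,
    MulEquiv.symm_apply_apply, MulAut.conj_apply, map_mul, map_inv] at h1
  rw [h1, MulAut.conj_apply]

/-- enough: `α ^ n` inner, `n` prime to the order -/
theorem exists_of_pow {α : MulAut K} {n : ℕ} (hc : Nat.Coprime n (orderOf α))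
    (h : α ^ n ∈ (MulAut.conj : K →* MulAut K).range) : ∃ g : K, α = MulAut.conj g := by
  obtain ⟨m, hm1, hm2⟩ := Nat.chineseRemainder hc 0 1
  rw [Nat.modEq_zero_iff_dvd] at hm1
  obtain ⟨b, rfl⟩ := hm1
  have h4 : α ^ (n * b) = α := by
    have : α ^ (n * b) = α ^ 1 := pow_eq_pow_iff_modEq.2 hm2
    rw [this, pow_one]
  obtain ⟨g, hg⟩ := h
  refine ⟨g ^ b, ?_⟩
  rw [← h4, pow_mul, ← hg, map_pow]

theorem OI.of_sq (h : ∀ α : MulAut K, α ^ 2 ∈ (MulAut.conj : K →* MulAut K).range) : OI K := fun α hα =>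
  exists_of_pow ((Nat.coprime_two_left).2 hα) (h α)

theorem OI.of_inner (h : ∀ α : MulAut K, ∃ g : K, α = MulAut.conj g) : OI K := fun α _ => h α

theorem OI.of_index {n : ℕ} (h : (MulAut.conj : K →* MulAut K).range.index = 2 ^ n) : OI K := by
  intro α hα
  have hn := NoThree.normal_inn (K := K)
  refine exists_of_pow (n := 2 ^ n) (Nat.Coprime.pow_left n ((Nat.coprime_two_left).2 hα)) ?_
  rw [← h]
  exact Subgroup.pow_index_mem _ α

theorem OI.of_le_two
    (h : (MulAut.conj : K →* MulAut K).range.index = 1 ∨ (MulAut.conj : K →* MulAut K).range.index = 2) : OI K := by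
  rcases h with h | h
  · exact OI.of_index (n := 0) (by rw [h, pow_zero])
  · exact OI.of_index (n := 1) (by rw [h, pow_one])

theorem OI.of_mul_inv
    (h : ∀ a b : MulAut K, (∀ u, a ≠ MulAut.conj u) → (∀ u, b ≠ MulAut.conj u) → ∃ u : K, b * a⁻¹ = MulAut.conj u) :
    OI K := by
  apply OI.of_sq
  intro α
  by_cases hα : ∃ x, α = MulAut.conj x
  · obtain ⟨x, hx⟩ := hα
    exact Subgroup.pow_mem _ (MonoidHom.mem_range.2 ⟨x, hx.symm⟩) 2
  · push Not at hα
    obtain ⟨u, hu⟩ := h α⁻¹ α (by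
      intro u hu
      apply hα u⁻¹
      rw [map_inv, ← hu, inv_inv]) hα
    rw [inv_inv] at hu
    exact ⟨u, by rw [pow_two, hu]⟩

/-- `Out` of order at most 2 -/
theorem OI.of_out (h : Nat.card (Out K) = 1 ∨ Nat.card (Out K) = 2) : OI K := OI.of_le_two h

/-! ### the rows -/

section B

open Cfsg.Agent.BabyM Cfsg.Agent.BabyM.Model Cfsg.Agent.BabyU.ClosModel Cfsg.Agent.BabyU.ClosLane

theorem b (h : Spor.IsoB K) : OI K := by
  have := A.finite_G
  obtain ⟨e⟩ := h
  obtain ⟨f⟩ := Cfsg.Agent.KFacts.Baby.RowB.exists_iso ⟨MulEquiv.refl Cfsg.Spor.BabyMonster⟩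
  exact OI.congr (e.trans f.symm) (OI.of_inner
    (Cfsg.Agent.KFacts.Baby.Sheet.data Cfsg.Agent.KFacts.CoTwo.InnerB.inner Cfsg.Agent.KFacts.Baby.Row.fix).allInner)

end B

theorem co1 (h : Spor.IsoCo1 K) : OI K := by
  obtain ⟨e⟩ := h
  refine OI.congr e (OI.of_inner fun α => ?_)
  obtain ⟨s, hs⟩ := Cfsg.Agent.ConwayFacts.AutCo1.inner α
  exact ⟨s, MulEquiv.ext fun g => by rw [hs, MulAut.conj_apply]⟩

theorem co2 (h : Spor.IsoCo2 K) : OI K := by
  obtain ⟨e⟩ := h
  have := Cfsg.Agent.Schreier.CoTwoStab.finite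
  exact OI.congr e (OI.of_inner fun α => Cfsg.Agent.KFacts.CoTwo.QuotInst.dataT.allInner α)

theorem co3 (h : Spor.IsoCo3 K) : OI K := by
  obtain ⟨e⟩ := h
  exact OI.of_inner fun α =>
    Cfsg.Agent.KFacts.Co3.Sheet.inner_of (e.trans Cfsg.Agent.SporRec.Co3.Model.equivCo3.symm).symm α

theorem fi22 (h : Spor.IsoFi22 K) : OI K := by
  obtain ⟨e⟩ := h
  refine OI.congr e (OI.of_sq fun α => ?_)
  by_cases hα : ∃ x, α = MulAut.conj x
  · obtain ⟨x, hx⟩ := hα
    exact Subgroup.pow_mem _ (MonoidHom.mem_range.2 ⟨x, hx.symm⟩) 2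
  · push Not at hα
    obtain ⟨x, hx⟩ := Cfsg.Agent.OddHalf.Table.OutFi22.mul_outer α α hα hα
    exact ⟨x, by rw [pow_two, hx]⟩

theorem fi23 (h : Spor.IsoFi23 K) : OI K := by
  obtain ⟨e⟩ := h
  exact OI.congr e (OI.of_inner Cfsg.Agent.KFacts.FiTTh.Has.inn)

theorem fi24' (h : Spor.IsoFi24' K) : OI K := by
  obtain ⟨e⟩ := h
  exact OI.congr e (OI.of_le_two ((Nat.dvd_prime Nat.prime_two).1 Cfsg.Agent.KFacts.FiTF.out))

theorem hn (h : Spor.IsoHN K) : OI K := by
  obtain ⟨e⟩ := h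
  exact OI.congr e (OI.of_le_two Cfsg.Agent.KFacts.HN.out_index)

section HS

open Cfsg.Agent.SporadicA.PermTab Cfsg.Agent.HN.HS100 Cfsg.Agent.HN.AutBound Cfsg.Agent.HN.AutHS Equiv

theorem hs_Q : OI Q := by
  refine OI.of_sq fun α => ?_
  obtain ⟨p, hp, h⟩ := exists_perm α
  have hpp : p * p ∈ Q := mem_Q_iff.2 ⟨mul_mem hp hp, by rw [map_mul, Int.units_mul_self]⟩
  refine ⟨⟨p * p, hpp⟩, ?_⟩
  ext1 x
  apply Subtype.ext
  show p * p * (x : Perm (Fin 100)) * (p * p)⁻¹ = (((α ^ 2) x : Q) : Perm (Fin 100))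
  rw [pow_two, MulAut.mul_apply, h, h]
  group

theorem hs (h : Spor.IsoHS K) : OI K := by
  obtain ⟨e⟩ := h
  obtain ⟨f⟩ := nonempty_Q.1
  exact OI.congr (e.trans f.symm) hs_Q

end HS

theorem he (h : Spor.IsoHe K) : OI K := OI.of_le_two (Cfsg.Agent.KFacts.He.Outer.index_le_two h)

theorem j1 (h : Spor.IsoJ1 K) : OI K := by
  obtain ⟨e⟩ := h
  exact OI.congr e (OI.of_out (Or.inl Cfsg.Agent.S2065.result))

section J2

open Equiv Cfsg.Agent.OddHalf.Table Cfsg.Agent.OddHalf.Table.OutJ2 Cfsg.Agent.SporadicA.PermTab Cfsg.Agent.SporadicA.J2Data Cfsg.Agent.SporadicA.J2Hundred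

theorem hundred : OI G := by
  apply OI.of_mul_inv
  intro a b ha hb
  refine CycNorm.mul_inv_inner_of (X := G) (p := 7) (m := 3) (N := 3) (by norm_num) (x := ⟨x, x_mem⟩)
    (f := ⟨f, f_mem⟩) (y := ⟨y, y_mem⟩) ?_ ?_ ?_ ?_ (by decide) (by decide) ?_ ?_ ?_ ?_ ?_ closure_eq ha hb
  · rw [Subgroup.orderOf_mk]; exact order_x
  · rw [card_G]; norm_num
  · rintro ⟨c, hc⟩ h
    obtain ⟨i, hi⟩ := cent_x hc (congrArg Subtype.val h)
    exact ⟨i, Subtype.ext hi⟩
  · exact Subtype.ext fx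
  · rw [Subgroup.orderOf_mk]; exact order_f
  · exact Subtype.ext y2
  · exact Subtype.ext yf
  · intro i h
    exact y_ne_pow i (congrArg Subtype.val h)
  · rintro ⟨c, hc⟩ h
    obtain ⟨i, hi | hi⟩ := cent_f hc (congrArg Subtype.val h)
    · exact ⟨i, Or.inl (Subtype.ext hi)⟩
    · exact ⟨i, Or.inr (Subtype.ext hi)⟩

theorem j2 (h : Spor.IsoJ2 K) : OI K := by
  obtain ⟨e⟩ := h
  obtain ⟨f⟩ := Cfsg.Agent.J2.HundredGens.J2_iso Cfsg.Agent.S1619.result.2.2.2
  exact OI.congr (e.trans f) hundred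

end J2

theorem j3 (h : Spor.IsoJ3 K) : OI K := by
  obtain ⟨z, Q, v, ρ, M, hc, hi, hs⟩ := Cfsg.Agent.OddHalf.D8.RowJ3.sheet' K h
  exact OI.of_le_two hi

theorem j4 (h : Spor.IsoJ4 K) : OI K := by
  obtain ⟨h1, h2, ⟨F⟩⟩ := Cfsg.Agent.KFacts.J4.Base.exists_full h
  exact OI.of_inner (Cfsg.Agent.KFacts.J4.SheetJ4.inner F)

theorem ly (h : Spor.IsoLy K) : OI K := OI.of_inner fun α => by
  obtain ⟨g, hg⟩ := Cfsg.Agent.TypeM.OutLyFin.inner h α
  exact ⟨g, hg.symm⟩

section M

open Cfsg.Spor (Co1)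
open Cfsg.Agent.MonsterX Cfsg.Agent.MonsterX.Model Cfsg.Agent.MonsterX.MainSimple Cfsg.Agent.MonsterX.MainBasic

theorem m_model {W : Type} [AddCommGroup W] [Module ℚ W] {M : MData W} (hG : MGroup M Co1) (hR : MRep M)
    (hL : MLat M) (hO : MOrbit M) (hT : MTrans M) : OI M.G := by
  have hfin := G_finite hO
  have hco := Cfsg.Agent.KFacts.MonsterE.simple_Co1
  obtain ⟨π, D⟩ := Cfsg.Agent.KFacts.MonsterE.data_model hG hR hL hO hT
  exact OI.of_inner D.inner

theorem m (h : Spor.IsoM K) : OI K := by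
  obtain ⟨e⟩ := h
  obtain ⟨f⟩ := Cfsg.Agent.MonsterP.Equiv.equiv
  exact OI.congr (e.trans f) (m_model Instance.mGroup Instance.mRep Instance.mLat InstanceFinal.mOrbit
    Instance.mTrans)

end M

theorem m11 (h : Spor.IsoM11 K) : OI K := by
  have : Finite K := by
    obtain ⟨e⟩ := h
    exact Finite.of_equiv _ e.symm.toEquiv
  exact OI.of_inner (Cfsg.Agent.UGT.End.MEleven.inner h)

theorem m12 (h : Spor.IsoM12 K) : OI K := by
  obtain ⟨e⟩ := h
  refine OI.congr e (OI.of_sq fun α => ?_)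
  rcases Cfsg.Agent.OddHalf.Table.OutMTwelve.mem_or_mem α with h1 | ⟨x, hx⟩
  · exact pow_mem h1 2
  · have ha := Cfsg.Agent.OddHalf.Table.OutMTwelve.al_mul_al
    set a := Cfsg.Agent.OddHalf.Table.OutMTwelve.al with ha'
    have h2 : α = a * MulAut.conj x := by rw [hx, ← mul_assoc, ha, one_mul]
    refine ⟨a x * x, ?_⟩
    rw [h2, pow_two]
    ext u
    have h3 : ∀ v, a (a v) = v := fun v => by
      rw [← MulAut.mul_apply, ha, MulAut.one_apply]
    simp only [MulAut.mul_apply, MulAut.conj_apply, map_mul, map_inv, h3, mul_inv_rev, mul_assoc]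

theorem m22 (h : Spor.IsoM22 K) : OI K := by
  obtain ⟨e⟩ := h
  refine OI.congr e (OI.of_sq fun φ => ?_)
  obtain ⟨d, hd, hφ⟩ := Cfsg.Agent.J4Type.Aut22.exists_conj φ
  refine ⟨⟨d * d, Cfsg.Agent.OddHalf.Quat.NoThreeSpor.sq_mem_M22 hd⟩, ?_⟩
  ext1 x
  apply Subtype.ext
  show d * d * (x : Equiv.Perm GolayPt) * (d * d)⁻¹ = (((φ ^ 2) x : ↥Spor.M22) : Equiv.Perm GolayPt)
  rw [pow_two, MulAut.mul_apply, hφ, hφ]
  group

theorem m23 (h : Spor.IsoM23 K) : OI K := by
  obtain ⟨e⟩ := h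
  exact OI.congr e (OI.of_inner fun α => Cfsg.Agent.UGT.MTwentyThree.Aut.exists_conj α)

theorem m24 (h : Spor.IsoM24 K) : OI K := by
  obtain ⟨e⟩ := h
  exact OI.congr e (OI.of_inner fun α => Cfsg.Agent.KFacts.M24Two.Out.exists_conj α)

theorem mcl (h : Spor.IsoMcL K) : OI K := by
  obtain ⟨hfin, hs, hcard, ⟨L⟩⟩ := Cfsg.Agent.TypeM.FactsMcL.facts h
  intro α hα
  obtain ⟨g, hg⟩ := Cfsg.Agent.UGT.End.McLOuter.inner_of_odd L hcard α hα
  exact ⟨g, hg.symm⟩

theorem on (h : Spor.IsoON K) : OI K := by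
  obtain ⟨e⟩ := h
  have h1 := Cfsg.Agent.KFacts.ON.Aut.index_le
  have h2 := Cfsg.Agent.KFacts.ON.Aut.finite_aut
  have h0 : (MulAut.conj : Cfsg.Spor.ON →* MulAut Cfsg.Spor.ON).range.index ≠ 0 := Subgroup.index_ne_zero_of_finite
  exact OI.congr e (OI.of_le_two (by omega))

theorem ru (h : Spor.IsoRu K) : OI K := by
  obtain ⟨e⟩ := h
  exact OI.congr (e.trans Cfsg.Agent.RuLat.Main.equiv) (OI.of_inner Cfsg.Agent.OddHalf.Table.OutRu.inner)

theorem suz (h : Spor.IsoSuz K) : OI K := by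
  obtain ⟨e⟩ := h
  exact OI.congr e (OI.of_le_two Cfsg.Agent.KFacts.SuzOut.index_eq)

theorem th (h : Spor.IsoTh K) : OI K := by
  obtain ⟨e⟩ := h
  exact OI.congr e (OI.of_inner Cfsg.Agent.KFacts.Th.Main.inner)

/-- **the automorphisms of odd order of a sporadic group are inner** -/
theorem sporadic (h : IsSporadicGroup K) : OI K := by
  rcases h with h | h | h | h | h | h | h | h | h | h | h | h | h | h | h | h | h | h | h | h | h | h | h | h | h | h
  · exact m11 h
  · exact m12 h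
  · exact m22 h
  · exact m23 h
  · exact m24 h
  · exact j1 h
  · exact j2 h
  · exact j3 h
  · exact j4 h
  · exact co1 h
  · exact co2 h
  · exact co3 h
  · exact mcl h
  · exact hs h
  · exact suz h
  · exact he h
  · exact ru h
  · exact on h
  · exact ly h
  · exact fi22 h
  · exact fi23 h
  · exact fi24' h
  · exact hn h
  · exact th h
  · exact b h
  · exact m h

end Cfsg.Agent.H256.OddInner
end
end

-- part: H256/SporB
section
set_option linter.all false
open scoped Cfsg.Agent.FastGrp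

-- part: H256/Spor
section
/-!
# The `Z*_p` theorem, `p` odd: tools for the sporadic rows

`K` a finite group (the sporadic group), `y` a `MinCex` of order `p` in `K`.

* `inner_of_out` : `p ∤ |Out K|` : the automorphisms of order `p` are inner;
* `cube_dvd` : `K` perfect: `p ^ 3 ∣ |K|`;
* `exists_norm` : `p` divides the order of the centralizer of an involution: every Sylow 2-subgroup is
  normalized by a conjugate of `y`;
* `false_of_selfN` : self-normalizing Sylow 2-subgroups;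
* `exists_comm` : `z` the only involution of `Z(S)`, `S` a Sylow 2-subgroup: a conjugate of `y` is in `C(z)`;
* `hom_eq_one` : `y ∈ P ≠ K`, `f : P → L` onto a simple nonabelian group: `f y = 1`;
* `false_of_hom` : `P ≤ C(z)` with `P → L` with kernel of order prime to `p`;
* `false_of_quasi` : `P ≤ C(z)` with `P / R` quasisimple, with centre of order prime to `p`.
-/

set_option autoImplicit false
set_option linter.style.haveILetI false
set_option linter.unusedSectionVars false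

namespace Cfsg.Agent.H256.Spor

open scoped commutatorElement
open Subgroup Cfsg Cfsg.Agent.H256.ZBasic Cfsg.Agent.H256.ZRed Cfsg.Agent.H256.ZTool

universe u v w

variable {K : Type u} [Group K] {p : ℕ} {y : K}

/-! ### inner automorphisms -/

variable [Finite K] [hp : Fact p.Prime]

/-! ### the Sylow `p`-subgroups -/

theorem cube_dvd (h : MinCex p y) (hK : commutator K = ⊤) : p ^ 3 ∣ Nat.card K := by
  by_contra hn
  obtain ⟨P⟩ : Nonempty (Sylow p K) := inferInstance
  obtain ⟨k, hk⟩ := P.isPGroup'.exists_card_eq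
  have hk2 : k ≤ 2 := by
    by_contra hk3
    apply hn
    refine (pow_dvd_pow p (by omega : 3 ≤ k)).trans ?_
    rw [← hk]
    exact Subgroup.card_subgroup_dvd_card _
  refine not_comm_sylow h.iso h.ord hK P ?_
  have hc : IsMulCommutative (P : Subgroup K) := by
    interval_cases k
    · rw [pow_zero] at hk
      have : Subsingleton (P : Subgroup K) := (Nat.card_eq_one_iff_unique.1 hk).1
      exact ⟨⟨fun a b => Subsingleton.elim _ _⟩⟩
    · rw [pow_one] at hk
      have : IsCyclic (P : Subgroup K) := isCyclic_of_prime_card hk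
      exact ⟨⟨fun a b => by
        obtain ⟨g, hg⟩ := IsCyclic.exists_generator (α := (P : Subgroup K))
        obtain ⟨m, rfl⟩ := mem_zpowers_iff.1 (hg a)
        obtain ⟨n, rfl⟩ := mem_zpowers_iff.1 (hg b)
        rw [← zpow_add, ← zpow_add, add_comm]⟩⟩
    · exact IsPGroup.isMulCommutative_of_card_eq_prime_sq hk
  intro a ha b hb
  exact congrArg Subtype.val (hc.is_comm.comm (⟨a, ha⟩ : (P : Subgroup K)) ⟨b, hb⟩)

/-! ### the Sylow 2-subgroups -/

omit hp in
theorem conj_mem_normalizer {S : Subgroup K} {g w : K} (h : w ∈ normalizer ((S : Subgroup K) : Set K)) :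
    (g * w * g⁻¹) ∈ normalizer ((S.map (MulAut.conj g).toMonoidHom : Subgroup K) : Set K) := by
  rw [mem_normalizer_iff] at h ⊢
  have key : ∀ x : K, x ∈ S.map (MulAut.conj g).toMonoidHom ↔ g⁻¹ * x * g ∈ S := by
    intro x
    constructor
    · rintro ⟨t, ht, rfl⟩
      simpa [MulAut.conj_apply, mul_assoc] using ht
    · intro ht
      exact ⟨_, ht, by simp [MulAut.conj_apply, mul_assoc]⟩
  intro x
  rw [key, key, h]
  have : w * (g⁻¹ * x * g) * w⁻¹ = g⁻¹ * (g * w * g⁻¹ * x * (g * w * g⁻¹)⁻¹) * g := by group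
  rw [this]

theorem exists_norm (h : MinCex p y) (hp2 : p ≠ 2) {s : K} (hs : s * s = 1) (hs1 : s ≠ 1)
    (hd : p ∣ Nat.card (centralizer ({s} : Set K))) (S : Sylow 2 K) :
    ∃ g : K, g * y * g⁻¹ ∈ normalizer ((S : Subgroup K) : Set K) := by
  haveI : Fact (Nat.Prime 2) := ⟨Nat.prime_two⟩
  obtain ⟨T, hT⟩ := exists_sylow_of_dvd h (ℓ := 2) (Ne.symm hp2) hs1
    ⟨1, by rw [pow_one]; exact orderOf_eq_prime (by rw [pow_two, hs]) hs1⟩ hd
  obtain ⟨g, hg⟩ := MulAction.exists_smul_eq K T S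
  refine ⟨g, ?_⟩
  have h1 := conj_mem_normalizer (g := g) hT
  have h2 : ((T : Subgroup K).map (MulAut.conj g).toMonoidHom) = (S : Subgroup K) := by
    rw [← hg]; rfl
  rwa [h2] at h1

/-- self-normalizing Sylow 2-subgroups -/
theorem false_of_selfN (h : MinCex p y) (hp2 : p ≠ 2)
    (hN : ∀ S : Sylow 2 K, normalizer ((S : Subgroup K) : Set K) ≤ (S : Subgroup K)) {s : K}
    (hs : s * s = 1) (hs1 : s ≠ 1) (hd : p ∣ Nat.card (centralizer ({s} : Set K))) : False := by
  haveI : Fact (Nat.Prime 2) := ⟨Nat.prime_two⟩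
  obtain ⟨S⟩ : Nonempty (Sylow 2 K) := inferInstance
  obtain ⟨g, hg⟩ := exists_norm h hp2 hs hs1 hd S
  have h1 := hN S hg
  obtain ⟨k, hk⟩ := (IsPGroup.iff_orderOf.1 S.isPGroup') ⟨_, h1⟩
  have h2 : orderOf (g * y * g⁻¹) = 2 ^ k := by
    rw [← hk]; exact (orderOf_injective (S : Subgroup K).subtype (subtype_injective _) ⟨_, h1⟩)
  rw [orderOf_conj', h.ord] at h2
  have h3 : p ∣ 2 ^ k := by rw [h2]
  exact hp2 ((Nat.prime_dvd_prime_iff_eq hp.out Nat.prime_two).1 (hp.out.dvd_of_dvd_pow h3))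

/-- `z` is the only involution of the centre of some Sylow 2-subgroup: a conjugate of `y` is in `C(z)`. -/
theorem exists_comm (h : MinCex p y) (hp2 : p ≠ 2) {z : K} (z1 : z ≠ 1)
    (hsyl : ∃ S : Sylow 2 K, z ∈ S ∧ (∀ x ∈ S, x * z = z * x) ∧
      ∀ w ∈ S, w * w = 1 → (∀ x ∈ S, x * w = w * x) → w = 1 ∨ w = z) (zz : z * z = 1)
    {s : K} (hs : s * s = 1) (hs1 : s ≠ 1)
    (hd : p ∣ Nat.card (centralizer ({s} : Set K))) :
    ∃ y' : K, MinCex p y' ∧ y' * z = z * y' := by
  obtain ⟨S, hzS, hzc, hu⟩ := hsyl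
  obtain ⟨g, hg⟩ := exists_norm h hp2 hs hs1 hd S
  refine ⟨g * y * g⁻¹, MinCex.conj h g, ?_⟩
  set c := g * y * g⁻¹ with hc
  rw [mem_normalizer_iff] at hg
  have h1 : c * z * c⁻¹ ∈ S := (hg z).1 hzS
  rcases hu _ h1 (by
      calc c * z * c⁻¹ * (c * z * c⁻¹) = c * (z * z) * c⁻¹ := by group
        _ = 1 := by rw [zz]; group) (by
      intro x hx
      have h2 : c⁻¹ * x * c ∈ (S : Subgroup K) := by
        refine (hg _).2 ?_
        have : c * (c⁻¹ * x * c) * c⁻¹ = x := by group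
        rw [this]; exact hx
      have h3 := hzc _ h2
      calc x * (c * z * c⁻¹) = c * ((c⁻¹ * x * c) * z) * c⁻¹ := by group
        _ = c * (z * (c⁻¹ * x * c)) * c⁻¹ := by rw [h3]
        _ = _ := by group) with h4 | h4
  · exfalso
    apply z1
    calc z = c⁻¹ * (c * z * c⁻¹) * c := by group
      _ = 1 := by rw [h4]; group
  · calc c * z = (c * z * c⁻¹) * c := by group
      _ = z * c := by rw [h4]

/-! ### homomorphisms onto simple groups -/

/-- the image of `InZStar` -/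
theorem inZStar_image {C : Type v} [Group C] [Finite C] {L : Type w} [Group L] {c : C} (h : InZStar p c)
    (f : C →* L) (hf : Function.Surjective f) : InZStar p (f c) := by
  haveI : Finite L := Finite.of_surjective f hf
  intro l
  obtain ⟨g, rfl⟩ := hf l
  have h1 : (pPrimeCore p C).map f ≤ pPrimeCore p L := by
    apply Lib.Cores.le_pPrimeCore
    · exact Subgroup.Normal.map (Lib.Cores.pPrimeCore_normal p) f hf
    · exact (Lib.Cores.pPrimeCore_coprime (G := C) p).coprime_dvd_left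
        (Subgroup.card_map_dvd (pPrimeCore p C) f)
  have h2 := h1 (mem_map_of_mem f (h g))
  simpa using h2

theorem eq_one_of_simple {L : Type w} [Group L] [Finite L] [hL : IsSimpleGroup L]
    (hna : ∃ a b : L, a * b ≠ b * a) (hd : p ∣ Nat.card L) {c : L} (h : InZStar p c) : c = 1 := by
  have h0 : pPrimeCore p L = ⊥ := by
    rcases (Lib.Cores.pPrimeCore_normal (G := L) p).eq_bot_or_eq_top with h1 | h1
    · exact h1
    · exfalso
      have h2 := Lib.Cores.pPrimeCore_coprime (G := L) p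
      rw [h1, card_top] at h2
      exact hp.out.one_lt.ne' (Nat.Coprime.eq_one_of_dvd h2.symm hd)
  have h1 := central_of_inZStar h0 h
  have h2 : c ∈ center L := mem_center_iff.2 fun g => h1 g
  rcases (inferInstance : (center L).Normal).eq_bot_or_eq_top with h3 | h3
  · rw [h3, mem_bot] at h2; exact h2
  · exfalso
    obtain ⟨a, b, hab⟩ := hna
    exact hab (by
      have : b ∈ center L := by rw [h3]; trivial
      exact mem_center_iff.1 this a)

/-- `y ∈ P ≠ K`, `f : P → L` onto a simple nonabelian group of order divisible by `p`: `f y = 1`. -/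
theorem hom_eq_one (h : MinCex p y) {P : Subgroup K} (hy : y ∈ P) (hP : P ≠ ⊤) {L : Type w} [Group L]
    [hL : IsSimpleGroup L] (hna : ∃ a b : L, a * b ≠ b * a) (hd : p ∣ Nat.card L) (f : P →* L)
    (hf : Function.Surjective f) : f ⟨y, hy⟩ = 1 := by
  haveI : Finite L := Finite.of_surjective f hf
  exact eq_one_of_simple hna hd (inZStar_image (h.sub P hy hP) f hf)

/-- elements of odd order of a group are in a subgroup "of index at most two" -/
theorem mem_of_idx {P : Subgroup K} {z : K}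
    (hidx : ∀ a b : K, a * z = z * a → b * z = z * b → a ∉ P → b ∉ P → a * b ∈ P) {c : K}
    (hc : c * z = z * c) (hodd : Odd (orderOf c)) : c ∈ P := by
  obtain ⟨m, hm⟩ := hodd
  have hcm : Commute (c ^ (m + 1)) z := Commute.pow_left hc _
  have h1 : c = c ^ (m + 1) * c ^ (m + 1) := by
    rw [← pow_add]
    have : m + 1 + (m + 1) = orderOf c + 1 := by omega
    rw [this, pow_succ, pow_orderOf_eq_one, one_mul]
  by_cases h2 : c ^ (m + 1) ∈ P
  · rw [h1]; exact P.mul_mem h2 h2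
  · rw [h1]; exact hidx _ _ hcm.eq hcm.eq h2 h2

omit [Finite K] hp in
theorem idx_of_rel {P : Subgroup K} {z : K}
    (h : P.relIndex (centralizer ({z} : Set K)) = 1 ∨ P.relIndex (centralizer ({z} : Set K)) = 2) :
    ∀ a b : K, a * z = z * a → b * z = z * b → a ∉ P → b ∉ P → a * b ∈ P := by
  intro a b ha hb haP hbP
  rcases h with h | h
  · rw [relIndex_eq_one] at h
    exact absurd (h (mem_centralizer_singleton_iff.2 ha)) haP
  · have h1 : (P.subgroupOf (centralizer ({z} : Set K))).index = 2 := h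
    have h2 := Subgroup.mul_mem_iff_of_index_two h1 (a := ⟨a, mem_centralizer_singleton_iff.2 ha⟩)
      (b := ⟨b, mem_centralizer_singleton_iff.2 hb⟩)
    have h3 := h2.2 (by
      simp only [mem_subgroupOf]
      exact ⟨fun h => absurd h haP, fun h => absurd h hbP⟩)
    exact mem_subgroupOf.1 h3

theorem odd_ord (h : MinCex p y) (hp2 : p ≠ 2) : Odd (orderOf y) := by
  rw [h.ord]; exact hp.out.odd_of_ne_two hp2

/-- `P ≤ C(z)` of index at most two with `f : P → L`, kernel without elements of order `p` -/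
theorem false_of_hom (h : MinCex p y) (hp2 : p ≠ 2) {z : K} (zz : z * z = 1) (z1 : z ≠ 1)
    (hsyl : ∃ S : Sylow 2 K, z ∈ S ∧ (∀ x ∈ S, x * z = z * x) ∧
      ∀ w ∈ S, w * w = 1 → (∀ x ∈ S, x * w = w * x) → w = 1 ∨ w = z)
    {P : Subgroup K} (hPt : P ≠ ⊤) (hPz : ∀ x ∈ P, x * z = z * x)
    (hidx : ∀ a b : K, a * z = z * a → b * z = z * b → a ∉ P → b ∉ P → a * b ∈ P)
    {L : Type w} [Group L] [hL : IsSimpleGroup L] (hna : ∃ a b : L, a * b ≠ b * a) (hd : p ∣ Nat.card L)
    (f : P →* L) (hf : Function.Surjective f) (hker : ∀ x : P, f x = 1 → orderOf x ≠ p) : False := by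
  have hdP : p ∣ Nat.card (centralizer ({z} : Set K)) := by
    have h1 : Nat.card L ∣ Nat.card P := Subgroup.card_dvd_of_surjective f hf
    have h2 : Nat.card P ∣ Nat.card (centralizer ({z} : Set K)) :=
      Subgroup.card_dvd_of_le fun x hx => mem_centralizer_singleton_iff.2 (hPz x hx)
    exact (hd.trans h1).trans h2
  obtain ⟨y', h', hy'⟩ := exists_comm h hp2 z1 hsyl zz zz z1 hdP
  have hyP : y' ∈ P := mem_of_idx hidx hy' (odd_ord h' hp2)
  have h1 := hom_eq_one h' hyP hPt hna hd f hf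
  refine hker _ h1 ?_
  rw [← h'.ord]
  exact (orderOf_injective P.subtype (subtype_injective _) ⟨y', hyP⟩).symm

/-! ### quasisimple quotients -/

theorem central_of_quasi {C : Type v} [Group C] [Finite C] {R : Subgroup C} (hperf : commutator C = ⊤)
    (hq : ∀ N : Subgroup C, N.Normal → R ≤ N → (∀ n ∈ N, ∀ g : C, g * n * g⁻¹ * n⁻¹ ∈ R) ∨ N = ⊤)
    (hR : R ≤ pPrimeCore p C) {x : C} (hx : orderOf x = p) (hz : InZStar p x) :
    ∀ g : C, g * x * g⁻¹ * x⁻¹ ∈ R := by
  have hO : (pPrimeCore p C).Normal := Lib.Cores.pPrimeCore_normal p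
  set N : Subgroup C := pPrimeCore p C ⊔ zpowers x with hN
  have hxN : x ∈ N := (le_sup_right : zpowers x ≤ N) (mem_zpowers x)
  have hNn : N.Normal := by
    refine ⟨fun n hn g => ?_⟩
    have h1 : N ≤ N.comap (MulAut.conj g).toMonoidHom := by
      rw [hN, sup_le_iff]
      constructor
      · intro a ha
        exact (le_sup_left : pPrimeCore p C ≤ N) (hO.conj_mem a ha g)
      · rw [zpowers_le]
        have h2 : g * x * g⁻¹ = (g * x * g⁻¹ * x⁻¹) * x := by group
        change g * x * g⁻¹ ∈ N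
        rw [h2]
        exact N.mul_mem ((le_sup_left : pPrimeCore p C ≤ N) (hz g)) hxN
    exact h1 hn
  rcases hq N hNn (hR.trans le_sup_left) with h1 | h1
  · exact fun g => h1 x hxN g
  · exfalso
    have h2 : commutator C ≤ pPrimeCore p C := by
      rw [_root_.commutator_def, ← h1, hN]
      have hxx : ∀ a ∈ pPrimeCore p C ⊔ zpowers x, ∀ b ∈ pPrimeCore p C ⊔ zpowers x,
          (QuotientGroup.mk' (pPrimeCore p C) a) * (QuotientGroup.mk' (pPrimeCore p C) b) =
          (QuotientGroup.mk' (pPrimeCore p C) b) * (QuotientGroup.mk' (pPrimeCore p C) a) := by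
        have key : ∀ a ∈ pPrimeCore p C ⊔ zpowers x, QuotientGroup.mk' (pPrimeCore p C) a ∈
            zpowers (QuotientGroup.mk' (pPrimeCore p C) x) := by
          intro a ha
          have h3 : pPrimeCore p C ⊔ zpowers x ≤
              (zpowers (QuotientGroup.mk' (pPrimeCore p C) x)).comap (QuotientGroup.mk' (pPrimeCore p C)) := by
            rw [sup_le_iff]
            constructor
            · intro b hb
              rw [mem_comap]
              have h0 : QuotientGroup.mk' (pPrimeCore p C) b = 1 := (QuotientGroup.eq_one_iff b).2 hb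
              rw [h0]
              exact one_mem _
            · rw [zpowers_le, mem_comap]
              exact mem_zpowers _
          exact h3 ha
        intro a ha b hb
        obtain ⟨m, hm⟩ := mem_zpowers_iff.1 (key a ha)
        obtain ⟨n, hn⟩ := mem_zpowers_iff.1 (key b hb)
        rw [← hm, ← hn, ← zpow_add, ← zpow_add, add_comm]
      rw [commutator_le]
      intro a ha b hb
      rw [← QuotientGroup.eq_one_iff, commutatorElement_def]
      have h4 := hxx a ha b hb
      simp only [QuotientGroup.mk'_apply] at h4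
      rw [QuotientGroup.mk_mul, QuotientGroup.mk_mul, QuotientGroup.mk_mul, h4]
      simp
    rw [hperf, top_le_iff] at h2
    have h3 := Lib.Cores.pPrimeCore_coprime (G := C) p
    rw [h2, card_top] at h3
    have h4 : p ∣ Nat.card C := by rw [← hx]; exact orderOf_dvd_natCard x
    exact hp.out.one_lt.ne' (Nat.Coprime.eq_one_of_dvd h3.symm h4)

/-- **the row of a sheet**: `P ≤ C(z)` of index at most two, `R` a normal 2-subgroup of `P`, `P` perfect,
`P / R` quasisimple, no element of order `p` of `P` is central modulo `R`. -/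
theorem false_of_quasi (h : MinCex p y) (hp2 : p ≠ 2) {z : K} (zz : z * z = 1) (z1 : z ≠ 1)
    (hsyl : ∃ S : Sylow 2 K, z ∈ S ∧ (∀ x ∈ S, x * z = z * x) ∧
      ∀ w ∈ S, (∀ x ∈ S, x * w = w * x) → w = 1 ∨ w = z)
    {P R : Subgroup K} (hPt : P ≠ ⊤) (hPz : ∀ x ∈ P, x * z = z * x)
    (hidx : ∀ a b : K, a * z = z * a → b * z = z * b → a ∉ P → b ∉ P → a * b ∈ P)
    (hRP : R ≤ P) (R2 : IsPGroup 2 R) (Rn : ∀ x ∈ P, ∀ r ∈ R, x * r * x⁻¹ ∈ R) (perf : ⁅P, P⁆ = P)
    (hq : ∀ N : Subgroup K, N ≤ P → R ≤ N → (∀ x ∈ P, ∀ n ∈ N, x * n * x⁻¹ ∈ N) → ⁅N, P⁆ ≤ R ∨ N = P)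
    (hd : p ∣ Nat.card P)
    (hc : ∀ x ∈ P, orderOf x = p → (∀ g ∈ P, g * x * g⁻¹ * x⁻¹ ∈ R) → False) : False := by
  have hdP : p ∣ Nat.card (centralizer ({z} : Set K)) :=
    hd.trans (Subgroup.card_dvd_of_le fun x hx => mem_centralizer_singleton_iff.2 (hPz x hx))
  obtain ⟨y', h', hy'⟩ := exists_comm h hp2 z1
    (by
      obtain ⟨S, h1, h2, h3⟩ := hsyl
      exact ⟨S, h1, h2, fun w hw _ => h3 w hw⟩) zz zz z1 hdP
  have hyP : y' ∈ P := mem_of_idx hidx hy' (odd_ord h' hp2)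
  have hyo : orderOf (⟨y', hyP⟩ : P) = p := by
    rw [← h'.ord]
    exact (orderOf_injective P.subtype (subtype_injective _) ⟨y', hyP⟩).symm
  have hpf : commutator P = ⊤ := by
    apply map_injective P.subtype_injective
    rw [_root_.commutator_def, map_commutator, ← MonoidHom.range_eq_map, range_subtype, perf]
  refine hc y' hyP h'.ord fun g hg => ?_
  have hRn : (R.subgroupOf P).Normal := ⟨fun n hn g => by
    rw [mem_subgroupOf] at hn ⊢
    exact Rn g g.2 n hn⟩
  have h1 := central_of_quasi (R := R.subgroupOf P) hpf (fun N hN hRN => by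
      rcases hq (N.map P.subtype) (by rintro _ ⟨n, -, rfl⟩; exact n.2) (by
          intro r hr
          exact ⟨⟨r, hRP hr⟩, hRN (mem_subgroupOf.2 hr), rfl⟩) (by
          rintro x hx _ ⟨n, hn, rfl⟩
          exact ⟨(⟨x, hx⟩ * n * ⟨x, hx⟩⁻¹ :), hN.conj_mem n hn _, rfl⟩) with h2 | h2
      · left
        intro n hn g
        rw [mem_subgroupOf]
        have h3 : ⁅(n : K), (g : K)⁆ ∈ R := h2 (commutator_mem_commutator (mem_map_of_mem P.subtype hn) g.2)
        have h4 : (g : K) * n * (g : K)⁻¹ * (n : K)⁻¹ = ⁅(n : K), (g : K)⁆⁻¹ := by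
          rw [commutatorElement_def]; group
        change (g : K) * n * (g : K)⁻¹ * (n : K)⁻¹ ∈ R
        rw [h4]
        exact R.inv_mem h3
      · right
        rw [eq_top_iff]
        intro x _
        have h3 : (x : K) ∈ N.map P.subtype := by rw [h2]; exact x.2
        obtain ⟨n, hn, h4⟩ := h3
        have : n = x := Subtype.ext h4
        rw [← this]; exact hn)
    (by
      apply Lib.Cores.le_pPrimeCore hRn
      have h2 : IsPGroup 2 (R.subgroupOf P) := R2.comap_of_injective _ P.subtype_injective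
      haveI : Fact (Nat.Prime 2) := ⟨Nat.prime_two⟩
      obtain ⟨k, hk⟩ := h2.exists_card_eq
      rw [hk]
      exact Nat.Coprime.pow_left k ((Nat.coprime_primes Nat.prime_two hp.out).2 (Ne.symm hp2)))
    hyo (h'.sub P hyP hPt) ⟨g, hg⟩
  exact h1

/-! ### the primes with `p ^ 3` dividing the order -/

omit hp in
theorem mem_of_cube (hp' : p.Prime) (l : List (ℕ × ℕ)) (hl : ∀ q ∈ l, q.1.Prime) {N : ℕ}
    (hN : N = (l.map fun q => q.1 ^ q.2).prod) (h : p ∣ N) : ∃ q ∈ l, q.1 = p := by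
  rw [hN] at h
  obtain ⟨a, ha, hpa⟩ := (Prime.dvd_prod_iff hp'.prime).1 h
  obtain ⟨q, hq, rfl⟩ := List.mem_map.1 ha
  exact ⟨q, hq, ((Nat.prime_dvd_prime_iff_eq hp' (hl q hq)).1 (hp'.dvd_of_dvd_pow hpa)).symm⟩

end Cfsg.Agent.H256.Spor
end

-- part: H256/SporB
section
/-!
# The `Z*_p` theorem, `p` odd: the criterion for the sporadic rows

* `row_spor` : `Row p L` for `L` with all automorphisms of odd order inner, from: no `MinCex` in `L`, `L` simple,
  perfect, `p ^ 3 ∣ |L|`;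
* `cases_cube` : the primes `p` with `p ^ 3 ∣ N`.
-/

set_option autoImplicit false

namespace Cfsg.Agent.H256.Spor

open scoped commutatorElement
open Subgroup Cfsg Cfsg.Agent.H256.ZBasic Cfsg.Agent.H256.ZRed Cfsg.Agent.H256.ZTool
  Cfsg.Agent.H256.OddInner

universe u v w

/-- simple nonabelian groups are perfect -/
theorem perfect_of_simple {L : Type v} [Group L] [hs : IsSimpleGroup L] (hna : ∃ a b : L, a * b ≠ b * a) :
    commutator L = ⊤ := by
  rcases (inferInstance : (commutator L).Normal).eq_bot_or_eq_top with h | h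
  · exfalso
    obtain ⟨a, b, hab⟩ := hna
    have h1 : ⁅a, b⁆ ∈ commutator L := commutator_mem_commutator (mem_top a) (mem_top b)
    rw [h, mem_bot, commutatorElement_eq_one_iff_mul_comm] at h1
    exact hab h1
  · exact h

theorem row_spor {L : Type v} [Group L] {p : ℕ} (hp : p.Prime) (hp2 : p ≠ 2) (hi : OI L)
    (hno : Finite L → IsSimpleGroup L → (∃ a b : L, a * b ≠ b * a) → commutator L = ⊤ → p ^ 3 ∣ Nat.card L →
      ∀ y : L, MinCex p y → False) :
    Row.{u} p L := by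
  have hf : Fact p.Prime := ⟨hp⟩
  intro G _ _ x h e
  have hs : IsSimpleGroup (commutator G) := h.simple
  have hfin : Finite L := Finite.of_equiv _ e.toEquiv
  have hsL : IsSimpleGroup L := e.symm.isSimpleGroup
  have hna : ∃ a b : L, a * b ≠ b * a := by
    by_contra hcon
    push Not at hcon
    apply h.not_comm
    intro a ha b hb
    have h1 := hcon (e ⟨a, ha⟩) (e ⟨b, hb⟩)
    rw [← map_mul, ← map_mul] at h1
    exact congrArg Subtype.val (e.injective h1)
  have hperf := perfect_of_simple hna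
  exact @row_of p _ L _
    (fun α hα => hi α (by rw [hα]; exact hp.odd_of_ne_two hp2))
    (fun y hy => hno hfin hsL hna hperf (cube_dvd hy hperf) y hy) G _ _ x h e

end Cfsg.Agent.H256.Spor
end
end

-- part: H256/SporC
section
set_option linter.all false
open scoped Cfsg.Agent.FastGrp

/-!
# The `Z*_p` theorem, `p` odd: more tools for the sporadic rows

* `false_of_simple_quot` : `P ≤ C(z)` with `P / R` simple nonabelian, `R` a 2-group;
* `false_of_large` : a large extraspecial subgroup `Q`, `C(z) / Q` simple nonabelian;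
* `false_of_hom2` : `P ≤ C(z)` with `P → L₁ × L₂`.
-/

set_option autoImplicit false
set_option linter.style.haveILetI false
set_option linter.unusedSectionVars false

namespace Cfsg.Agent.H256.Spor

open scoped commutatorElement
open Subgroup Cfsg Cfsg.Agent.H256.ZBasic Cfsg.Agent.H256.ZRed Cfsg.Agent.H256.ZTool Cfsg.Agent.Co2Type.Quad

universe u v w

variable {K : Type u} [Group K] {p : ℕ} {y : K}

theorem not_mem_two (hp : p.Prime) (hp2 : p ≠ 2) {R : Subgroup K} (R2 : IsPGroup 2 R) {x : K}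
    (hx : orderOf x = p) : x ∉ R := by
  intro hxR
  obtain ⟨k, hk⟩ := (IsPGroup.iff_orderOf.1 R2) ⟨x, hxR⟩
  have h1 : orderOf x = 2 ^ k := by
    rw [← hk]; exact orderOf_injective R.subtype (subtype_injective _) ⟨x, hxR⟩
  rw [hx] at h1
  have h2 : p ∣ 2 ^ k := by rw [h1]
  exact hp2 ((Nat.prime_dvd_prime_iff_eq hp Nat.prime_two).1 (hp.dvd_of_dvd_pow h2))

/-- `P / R` simple: no element of `P` of odd prime order is central modulo `R` -/
theorem not_central_of_simple (hp : p.Prime) (hp2 : p ≠ 2) {P R : Subgroup K} (hRP : R ≤ P) (R2 : IsPGroup 2 R)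
    (Rn : ∀ x ∈ P, ∀ r ∈ R, x * r * x⁻¹ ∈ R) (perf : ⁅P, P⁆ = P)
    (hq : ∀ N : Subgroup K, N ≤ P → R ≤ N → (∀ x ∈ P, ∀ n ∈ N, x * n * x⁻¹ ∈ N) → N ≤ R ∨ N = P)
    {x : K} (hxP : x ∈ P) (hx : orderOf x = p) (hc : ∀ g ∈ P, g * x * g⁻¹ * x⁻¹ ∈ R) : False := by
  have hnR := not_mem_two hp hp2 R2 hx
  have hxn : ∀ m : ℤ, ∀ r ∈ R, x ^ m * r * (x ^ m)⁻¹ ∈ R := fun m r hr => Rn _ (P.zpow_mem hxP m) r hr
  have hcz : ∀ g ∈ P, ∀ m : ℤ, g * x ^ m * g⁻¹ * (x ^ m)⁻¹ ∈ R := by
    intro g hg m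
    have hn : zpowers x ≤ normalizer ((R : Subgroup K) : Set K) := by
      rw [zpowers_le, mem_normalizer_iff]
      intro r
      refine ⟨fun hr => Rn x hxP r hr, fun hr => ?_⟩
      have := Rn _ (P.inv_mem hxP) _ hr
      have e : x⁻¹ * (x * r * x⁻¹) * x⁻¹⁻¹ = r := by group
      rwa [e] at this
    -- work in the normalizer of `R`
    set N0 := normalizer ((R : Subgroup K) : Set K) with hN0
    have hPN : P ≤ N0 := by
      intro a ha
      rw [hN0, mem_normalizer_iff]
      intro r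
      refine ⟨fun hr => Rn a ha r hr, fun hr => ?_⟩
      have := Rn _ (P.inv_mem ha) _ hr
      have e : a⁻¹ * (a * r * a⁻¹) * a⁻¹⁻¹ = r := by group
      rwa [e] at this
    haveI : (R.subgroupOf N0).Normal := normal_in_normalizer
    let q := QuotientGroup.mk' (R.subgroupOf N0)
    have h1 : q ⟨g, hPN hg⟩ * q ⟨x, hPN hxP⟩ = q ⟨x, hPN hxP⟩ * q ⟨g, hPN hg⟩ := by
      rw [← map_mul, ← map_mul]
      refine ((QuotientGroup.eq (s := R.subgroupOf N0)).2 ?_).symm
      rw [mem_subgroupOf]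
      have h2 := Rn _ (P.inv_mem (P.mul_mem hxP hg)) _ (hc g hg)
      have e : ((⟨x, hPN hxP⟩ : N0) * ⟨g, hPN hg⟩)⁻¹ * (⟨g, hPN hg⟩ * ⟨x, hPN hxP⟩) =
        ⟨(x * g)⁻¹ * (g * x), N0.mul_mem (N0.inv_mem (N0.mul_mem (hPN hxP) (hPN hg)))
          (N0.mul_mem (hPN hg) (hPN hxP))⟩ := rfl
      rw [e]
      have e2 : (x * g)⁻¹ * (g * x * g⁻¹ * x⁻¹) * (x * g)⁻¹⁻¹ = (x * g)⁻¹ * (g * x) := by group
      rwa [e2] at h2
    have h3 : q (⟨g, hPN hg⟩ * ⟨x, hPN hxP⟩ ^ m * ⟨g, hPN hg⟩⁻¹ * (⟨x, hPN hxP⟩ ^ m)⁻¹) = 1 := by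
      rw [map_mul, map_mul, map_mul, map_inv, map_inv, map_zpow]
      have h4 : Commute (q ⟨g, hPN hg⟩) (q ⟨x, hPN hxP⟩ ^ m) := Commute.zpow_right h1 m
      rw [h4.eq]; group
    have h5 := (QuotientGroup.eq_one_iff _).1 h3
    rw [mem_subgroupOf] at h5
    exact h5
  set N : Subgroup K := R ⊔ zpowers x with hN
  have hNle : N ≤ P := sup_le hRP (zpowers_le.2 hxP)
  have hNn : ∀ g ∈ P, ∀ n ∈ N, g * n * g⁻¹ ∈ N := by
    intro g hg n hn
    have h1 : N ≤ N.comap (MulAut.conj g).toMonoidHom := by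
      rw [hN, sup_le_iff]
      constructor
      · intro a ha
        exact (le_sup_left : R ≤ N) (Rn g hg a ha)
      · rw [zpowers_le]
        have h2 : g * x * g⁻¹ = (g * x * g⁻¹ * x⁻¹) * x := by group
        change g * x * g⁻¹ ∈ N
        rw [h2]
        exact N.mul_mem ((le_sup_left : R ≤ N) (hc g hg)) ((le_sup_right : zpowers x ≤ N) (mem_zpowers x))
    exact h1 hn
  rcases hq N hNle le_sup_left hNn with h1 | h1
  · exact hnR (h1 ((le_sup_right : zpowers x ≤ N) (mem_zpowers x)))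
  · -- `P = R ⟨x⟩`, so `[P, P] ≤ R`
    apply hnR
    have h2 : ⁅P, P⁆ ≤ R := by
      have key : ∀ a ∈ P, ∃ r ∈ R, ∃ m : ℤ, a = r * x ^ m := by
        intro a ha
        rw [← h1, hN] at ha
        have hn : zpowers x ≤ normalizer ((R : Subgroup K) : Set K) := by
          rw [zpowers_le, mem_normalizer_iff]
          intro r
          refine ⟨fun hr => Rn x hxP r hr, fun hr => ?_⟩
          have := Rn _ (P.inv_mem hxP) _ hr
          have e : x⁻¹ * (x * r * x⁻¹) * x⁻¹⁻¹ = r := by group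
          rwa [e] at this
        have h3 : (a : K) ∈ ((R ⊔ zpowers x : Subgroup K) : Set K) := ha
        rw [coe_mul_of_right_le_normalizer_left R (zpowers x) hn] at h3
        obtain ⟨r, hr, b, hb, rfl⟩ := h3
        obtain ⟨m, rfl⟩ := mem_zpowers_iff.1 hb
        exact ⟨r, hr, m, rfl⟩
      rw [commutator_le]
      intro a ha b hb
      obtain ⟨r, hr, m, rfl⟩ := key a ha
      rw [commutatorElement_def]
      -- `⁅r x^m, b⁆ = r (x^m b x^-m b⁻¹) (b r⁻¹ b⁻¹)`
      have h4 : b * x ^ m * b⁻¹ * (x ^ m)⁻¹ ∈ R := hcz b hb m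
      have h5 : x ^ m * b * (x ^ m)⁻¹ * b⁻¹ = (b * x ^ m * b⁻¹ * (x ^ m)⁻¹)⁻¹ := by group
      have e : r * x ^ m * b * (r * x ^ m)⁻¹ * b⁻¹ =
          r * (x ^ m * b * (x ^ m)⁻¹ * b⁻¹) * (b * r⁻¹ * b⁻¹) := by group
      rw [e, h5]
      exact R.mul_mem (R.mul_mem hr (R.inv_mem h4)) (Rn b hb _ (R.inv_mem hr))
    rw [perf] at h2
    exact h2 hxP

variable [Finite K] [hp : Fact p.Prime]

/-- `P ≤ C(z)` of index at most two, `P / R` simple nonabelian, `R` a 2-group -/
theorem false_of_simple_quot (h : MinCex p y) (hp2 : p ≠ 2) {z : K} (zz : z * z = 1) (z1 : z ≠ 1)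
    (hsyl : ∃ S : Sylow 2 K, z ∈ S ∧ (∀ x ∈ S, x * z = z * x) ∧
      ∀ w ∈ S, (∀ x ∈ S, x * w = w * x) → w = 1 ∨ w = z)
    {P R : Subgroup K} (hPt : P ≠ ⊤) (hPz : ∀ x ∈ P, x * z = z * x)
    (hidx : ∀ a b : K, a * z = z * a → b * z = z * b → a ∉ P → b ∉ P → a * b ∈ P)
    (hRP : R ≤ P) (R2 : IsPGroup 2 R) (Rn : ∀ x ∈ P, ∀ r ∈ R, x * r * x⁻¹ ∈ R) (perf : ⁅P, P⁆ = P)
    (hq : ∀ N : Subgroup K, N ≤ P → R ≤ N → (∀ x ∈ P, ∀ n ∈ N, x * n * x⁻¹ ∈ N) → N ≤ R ∨ N = P)
    (hd : p ∣ Nat.card P) : False :=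
  false_of_quasi h hp2 zz z1 hsyl hPt hPz hidx hRP R2 Rn perf
    (fun N hN hR hn => (hq N hN hR hn).imp_left fun h1 => (by
      rw [commutator_le]
      intro a ha b hb
      rw [commutatorElement_def]
      have e : a * b * a⁻¹ * b⁻¹ = a * (b * a⁻¹ * b⁻¹) := by group
      rw [e]
      exact R.mul_mem (h1 ha) (Rn b hb _ (R.inv_mem (h1 ha)))))
    hd
    fun _ hxP hx hc => not_central_of_simple hp.out hp2 hRP R2 Rn perf hq hxP hx hc

/-- **large extraspecial subgroups**: `C(z) / Q` simple nonabelian of order divisible by `p` -/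
theorem false_of_large (h : MinCex p y) (hp2 : p ≠ 2) {Q : Subgroup K} {z : K} {L : Type w} [Group L]
    [IsSimpleGroup L] (hl : Large Q z) (hna : ∃ a b : L, a * b ≠ b * a)
    (hodd : Odd (centralizer ({z} : Set K)).index) (π : centralizer ({z} : Set K) →* L)
    (hπ : Function.Surjective π) (hker : ∀ c : centralizer ({z} : Set K), π c = 1 → (c : K) ∈ Q)
    (hd : p ∣ Nat.card L) : False := by
  have hcen : ∀ x ∈ centralizer ({z} : Set K), x * z = z * x := fun x hx => mem_centralizer_singleton_iff.1 hx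
  have hQ2 : IsPGroup 2 Q := Cfsg.Agent.LargeExtra.Base.isPGroup hl
  have hnorm : centralizer ({z} : Set K) ≤ normalizer (Q : Set K) := by
    intro g hg
    rw [mem_normalizer_iff]
    intro x
    refine ⟨fun hx => hl.conj_mem g (hcen g hg) x hx, fun hx => ?_⟩
    have h1 := hl.conj_mem g⁻¹ (hcen _ (inv_mem hg)) _ hx
    have e : g⁻¹ * (g * x * g⁻¹) * g⁻¹⁻¹ = x := by group
    rwa [e] at h1
  refine false_of_hom h hp2 hl.z_sq hl.z_ne ?_ (centralizer_ne_top h hl.z_ne) hcen
    (fun a b ha hb _ _ => mem_centralizer_singleton_iff.2 ?_) hna hd π hπ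
    (fun x hx hxo => not_mem_two hp.out hp2 hQ2 (x := (x : K)) (by
      rw [← hxo]
      exact orderOf_injective (centralizer ({z} : Set K)).subtype (subtype_injective _) x) (hker x hx))
  · obtain ⟨S, hS⟩ := KFacts.AutLarge.exists_sylow hodd
    have hQS : Q ≤ S := by
      have h2 : IsPGroup 2 ((S : Subgroup K) ⊔ Q : Subgroup K) :=
        S.isPGroup'.to_sup_of_normal_right' hQ2 (hS.trans hnorm)
      have h3 := S.is_maximal' h2 le_sup_left
      exact (le_sup_right : Q ≤ (S : Subgroup K) ⊔ Q).trans h3.le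
    exact ⟨S, hQS hl.z_mem, fun x hx => hcen x (hS hx), fun w hw _ hwc =>
      KFacts.LargeE.cent_eq hl (hcen w (hS hw)) (fun x hx => (hwc x (hQS hx)).symm)⟩
  · calc a * b * z = a * (b * z) := by group
      _ = a * z * b := by rw [hb]; group
      _ = z * (a * b) := by rw [ha]; group

end Cfsg.Agent.H256.Spor
end
end
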