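import Cfsg.Agent.H256.ZBasic
import Mathlib.GroupTheory.Perm.Cycle.Type
set_option linter.all false

/-!
# Minimal counterexamples to the `Z*_p` statement

`MinCex p x`: `x` is isolated of order `p`, not central modulo `O_{p'}(G)`, but so in every proper
subgroup containing `x` and in every proper quotient.

* `MinCex.core`: `O_{p'}(G) = 1`; `MinCex.sup_eq_top`: `N⟨x⟩ = G` for every nontrivial normal `N`;
* `MinCex.simple`, `MinCex.centralizer_eq_bot`: `G'` is nonabelian simple with trivial centralizer;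
* `of_min`: no minimal counterexamples, no counterexamples of order `p`;
* `of_prime_order`: the case of elements of order `p` implies the case of `p`-elements.
-/

set_option autoImplicit false

namespace Cfsg.Agent.H256.ZRed

open Subgroup Cfsg Cfsg.Agent.H256.ZBasic

universe u

/-- A minimal counterexample to the `Z*_p` statement. -/
structure MinCex {G : Type u} [Group G] (p : ℕ) (x : G) : Prop where
  ord : orderOf x = p
  iso : IsIsolated x
  nz : ¬ InZStar p x
  sub : ∀ (H : Subgroup G) (hxH : x ∈ H), H ≠ ⊤ → InZStar p (⟨x, hxH⟩ : ↥H)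
  quot : ∀ (N : Subgroup G) [N.Normal], N ≠ ⊥ → InZStar p (QuotientGroup.mk x : G ⧸ N)

variable {G : Type u} [Group G] {p : ℕ} {x : G}

theorem MinCex.pord (h : MinCex p x) : ∃ k : ℕ, orderOf x = p ^ k := ⟨1, by rw [h.ord, pow_one]⟩

theorem MinCex.core [Finite G] (h : MinCex p x) : pPrimeCore p G = ⊥ := by
  by_contra hne
  exact h.nz (inZStar_of_quotient (h.quot _ hne))

theorem MinCex.not_central (h : MinCex p x) : ¬ ∀ g : G, g * x = x * g :=
  fun hc => h.nz (inZStar_of_central hc)

/-- In a proper subgroup `H` containing `x`, commutators of `x` lie in the `p'`-core. -/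
theorem MinCex.comm_mem (h : MinCex p x) {H : Subgroup G} (hxH : x ∈ H) (hH : H ≠ ⊤) {g : G}
    (hg : g ∈ H) : g * x * g⁻¹ * x⁻¹ ∈ (pPrimeCore p H).map H.subtype :=
  ⟨_, h.sub H hxH hH ⟨g, hg⟩, rfl⟩

/-- `x` centralizes every normal subgroup `N` with `N⟨x⟩ ≠ G`. -/
theorem MinCex.centralizes [Finite G] (h : MinCex p x) (N : Subgroup G) [hN : N.Normal]
    (hne : N ⊔ zpowers x ≠ ⊤) {n : G} (hn : n ∈ N) : n * x = x * n := by
  set H := N ⊔ zpowers x with hH
  have hxH : x ∈ H := mem_sup_right (mem_zpowers x)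
  have hNH : N ≤ H := le_sup_left
  set O := (pPrimeCore p H).map H.subtype with hO
  have h1 := h.comm_mem hxH hne (hNH hn)
  have h2 : n * x * n⁻¹ * x⁻¹ ∈ N := by
    have : n * x * n⁻¹ * x⁻¹ = n * (x * n⁻¹ * x⁻¹) := by group
    rw [this]
    exact N.mul_mem hn (hN.conj_mem _ (N.inv_mem hn) x)
  have hOcard : (Nat.card O).Coprime p := by
    rw [hO, Nat.card_congr ((pPrimeCore p H).equivMapOfInjective H.subtype
      H.subtype_injective).symm.toEquiv]
    exact Lib.Cores.pPrimeCore_coprime p
  have hK : (O ⊓ N).IsSubnormal := by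
    refine Subgroup.IsSubnormal.step _ _ inf_le_right hN.isSubnormal ?_
    refine ⟨fun y hy n => ?_⟩
    rw [mem_subgroupOf] at hy ⊢
    refine ⟨?_, hN.conj_mem _ hy.2 _⟩
    obtain ⟨z, hz, hzy⟩ := hy.1
    refine ⟨⟨n, hNH n.2⟩ * z * ⟨n, hNH n.2⟩⁻¹, (Lib.Cores.pPrimeCore_normal p).conj_mem z hz _, ?_⟩
    simp only [map_mul, map_inv, hzy]
    rfl
  have hKc : (Nat.card (O ⊓ N : Subgroup G)).Coprime p :=
    Nat.Coprime.coprime_dvd_left (card_dvd_of_le inf_le_left) hOcard
  have h3 := SignalizersComponents.CompBasic.subnormal_coprime_le_pPrimeCore hK hKc ⟨h1, h2⟩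
  rw [h.core, mem_bot] at h3
  calc n * x = (n * x * n⁻¹ * x⁻¹) * (x * n) := by group
    _ = x * n := by rw [h3, one_mul]

theorem dvd_card_of_ne_bot [Finite G] {p : ℕ} [Fact p.Prime] (hO : pPrimeCore p G = ⊥)
    {N : Subgroup G} (hN : N.IsSubnormal) (hne : N ≠ ⊥) : p ∣ Nat.card N := by
  by_contra hc
  refine hne (le_bot_iff.1 ?_)
  rw [← hO]
  exact SignalizersComponents.CompBasic.subnormal_coprime_le_pPrimeCore hN
    ((Nat.Prime.coprime_iff_not_dvd Fact.out).2 hc).symm

theorem exists_orderOf_eq [Finite G] {p : ℕ} [hp : Fact p.Prime] (hO : pPrimeCore p G = ⊥)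
    {N : Subgroup G} (hN : N.IsSubnormal) (hne : N ≠ ⊥) : ∃ y ∈ N, orderOf y = p := by
  obtain ⟨y, hy⟩ := exists_prime_orderOf_dvd_card' p (dvd_card_of_ne_bot hO hN hne)
  refine ⟨y, y.2, ?_⟩
  rw [← hy]
  exact orderOf_injective N.subtype N.subtype_injective y

/-- If `O_{p'}(G) = 1` and `z` is a central `p`-element then `O_{p'}(G/⟨z⟩) = 1`. -/
theorem comap_core_le [Finite G] {p : ℕ} [Fact p.Prime] (hO : pPrimeCore p G = ⊥) {z : G}
    (hzc : ∀ g : G, Commute g z) (hZp : IsPGroup p (zpowers z)) [hZn : (zpowers z).Normal] :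
    (pPrimeCore p (G ⧸ zpowers z)).comap (QuotientGroup.mk' (zpowers z)) ≤ zpowers z := by
  set U : Subgroup G := (pPrimeCore p (G ⧸ zpowers z)).comap (QuotientGroup.mk' (zpowers z)) with hU
  refine S0634.le_of_central_coprime hO ?_ ?_ hZp ?_ ?_
  · intro y hy
    rw [hU, mem_comap, QuotientGroup.mk'_apply, (QuotientGroup.eq_one_iff y).2 hy]
    exact one_mem _
  · rw [hU]; exact (Lib.Cores.pPrimeCore_normal p).comap _
  · intro y _
    rw [mem_centralizer_iff]
    rintro _ ⟨j, rfl⟩
    exact ((hzc y).zpow_right j).eq.symm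
  · have h2 : (zpowers z).relIndex U = Nat.card (pPrimeCore p (G ⧸ zpowers z)) := by
      have h3 := relIndex_comap (⊥ : Subgroup (G ⧸ zpowers z)) (QuotientGroup.mk' (zpowers z)) U
      rw [MonoidHom.comap_bot, QuotientGroup.ker_mk', relIndex_bot_left, hU,
        map_comap_eq_self_of_surjective (QuotientGroup.mk'_surjective _)] at h3
      exact h3
    rw [h2]
    exact Lib.Cores.pPrimeCore_coprime p

/-- In a minimal counterexample, `N⟨x⟩ = G` for every nontrivial normal subgroup `N`. -/
theorem MinCex.sup_eq_top [Finite G] [Fact p.Prime] (h : MinCex p x) (N : Subgroup G)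
    [hN : N.Normal] (hne : N ≠ ⊥) : N ⊔ zpowers x = ⊤ := by
  by_contra htop
  have hNx := fun n hn => h.centralizes N htop (n := n) hn
  -- the centralizer of `N` is `G`
  have hC : centralizer (N : Set G) = ⊤ := by
    by_contra hCt
    have hxC : x ∈ centralizer (N : Set G) := by
      rw [mem_centralizer_iff]
      exact fun n hn => hNx n hn
    have hle : centralizer (N : Set G) ⊔ zpowers x = centralizer (N : Set G) :=
      sup_eq_left.2 (by rw [zpowers_le]; exact hxC)
    have hCx := fun n hn => h.centralizes (centralizer (N : Set G)) (by rw [hle]; exact hCt)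
      (n := n) hn
    apply h.not_central
    intro g
    have h1 : g * x * g⁻¹ ∈ centralizer (N : Set G) :=
      (inferInstance : (centralizer (N : Set G)).Normal).conj_mem x hxC g
    have h2 := h.iso g (hCx _ h1).symm
    calc g * x = (g * x * g⁻¹) * g := by group
      _ = x * g := by rw [h2]
  -- an element of order `p` in `N`
  obtain ⟨z, hzN, hz⟩ := exists_orderOf_eq h.core hN.isSubnormal hne
  have hzc : ∀ g : G, Commute g z := by
    intro g
    have h1 : g ∈ centralizer (N : Set G) := by rw [hC]; trivial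
    exact (mem_centralizer_iff.1 h1 z hzN).symm
  have hp : p.Prime := Fact.out
  have hZn : (zpowers z).Normal := by
    refine ⟨fun n hn g => ?_⟩
    obtain ⟨j, rfl⟩ := hn
    have h1 : g * z ^ j * g⁻¹ = z ^ j := by
      have : Commute g (z ^ j) := (hzc g).zpow_right j
      rw [this.eq, mul_inv_cancel_right]
    exact ⟨j, h1.symm⟩
  have hZne : zpowers z ≠ ⊥ := by
    rw [Ne, zpowers_eq_bot]
    rintro rfl
    rw [orderOf_one] at hz
    exact hp.one_lt.ne hz
  have hZp : IsPGroup p (zpowers z) := IsPGroup.of_card (n := 1) (by rw [Nat.card_zpowers, hz, pow_one])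
  have hq := h.quot (zpowers z) hZne
  set U : Subgroup G := (pPrimeCore p (G ⧸ zpowers z)).comap (QuotientGroup.mk' (zpowers z)) with hU
  have hUle : U ≤ zpowers z := comap_core_le h.core hzc hZp
  apply h.not_central
  intro g
  have h3 : g * x * g⁻¹ * x⁻¹ ∈ U := by
    rw [hU, mem_comap]
    have := hq (QuotientGroup.mk g)
    simpa using this
  obtain ⟨j, hj⟩ := hUle h3
  have h4 : g * x * g⁻¹ = z ^ j * x := by
    simp only at hj
    rw [hj]; group
  have h5 : Commute x (g * x * g⁻¹) := by
    rw [h4]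
    exact ((hzc x).zpow_right j).mul_right (Commute.refl x)
  have h6 := h.iso g h5
  calc g * x = (g * x * g⁻¹) * g := by group
    _ = x * g := by rw [h6]

/-- Elements of `G = N⟨x⟩` are products of an element of `N` and a power of `x`. -/
theorem exists_mul_zpow {N : Subgroup G} [hN : N.Normal] (h : N ⊔ zpowers x = ⊤) (g : G) :
    ∃ n ∈ N, ∃ j : ℤ, g = n * x ^ j := by
  have h1 : g ∈ N ⊔ zpowers x := by rw [h]; trivial
  rw [Subgroup.mem_sup_of_normal_left] at h1
  obtain ⟨n, hn, _, ⟨j, rfl⟩, he⟩ := h1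
  exact ⟨n, hn, j, he.symm⟩

/-- If `G = N⟨x⟩` then `G' ≤ N`. -/
theorem commutator_le_of_sup {N : Subgroup G} [hN : N.Normal] (h : N ⊔ zpowers x = ⊤) :
    commutator G ≤ N := by
  rw [_root_.commutator_def, commutator_le]
  intro a _ b _
  rw [← QuotientGroup.eq_one_iff]
  obtain ⟨n, hn, j, rfl⟩ := exists_mul_zpow h a
  obtain ⟨m, hm, k, rfl⟩ := exists_mul_zpow h b
  have h1 : (QuotientGroup.mk n : G ⧸ N) = 1 := (QuotientGroup.eq_one_iff n).2 hn
  have h2 : (QuotientGroup.mk m : G ⧸ N) = 1 := (QuotientGroup.eq_one_iff m).2 hm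
  rw [commutatorElement_def]
  simp only [QuotientGroup.mk_mul, QuotientGroup.mk_inv, QuotientGroup.mk_zpow, h1, h2, one_mul]
  rw [← zpow_add, ← zpow_neg, ← zpow_neg, ← zpow_add, ← zpow_add]
  have : j + k + -j + -k = 0 := by ring
  rw [this, zpow_zero]

theorem MinCex.commutator_ne_bot (h : MinCex p x) : commutator G ≠ ⊥ := by
  intro h0
  apply h.not_central
  intro g
  have h1 := commutator_mem_commutator (mem_top g) (mem_top x)
  rw [← _root_.commutator_def, h0, mem_bot, commutatorElement_eq_one_iff_mul_comm] at h1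
  exact h1

theorem MinCex.sup_commutator [Finite G] [Fact p.Prime] (h : MinCex p x) :
    commutator G ⊔ zpowers x = ⊤ := h.sup_eq_top _ h.commutator_ne_bot

/-- `p` divides the order of a nontrivial subnormal subgroup, and some element of order `p` of it
commutes with `x` if it is normalized by a supplement of `⟨x⟩`. -/
theorem MinCex.exists_comm [Finite G] [hp : Fact p.Prime] (h : MinCex p x) {D M : Subgroup G}
    [hD : D.Normal] (hDx : D ⊔ zpowers x = ⊤) (hM : M.IsSubnormal)
    (hDM : D ≤ normalizer (M : Set G)) (hne : M ≠ ⊥) :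
    ∃ y ∈ M, y ≠ 1 ∧ x * y = y * x := by
  obtain ⟨y, hyM, hy⟩ := exists_orderOf_eq h.core hM hne
  have hyk : IsPGroup p (zpowers y) := IsPGroup.of_card (n := 1) (by rw [Nat.card_zpowers, hy, pow_one])
  have hxk : IsPGroup p (zpowers x) := IsPGroup.of_card (n := 1)
    (by rw [Nat.card_zpowers, h.ord, pow_one])
  obtain ⟨Q, hQ⟩ := hyk.exists_le_sylow
  obtain ⟨R, hR⟩ := hxk.exists_le_sylow
  obtain ⟨g, hg⟩ := MulAction.exists_smul_eq G Q R
  have h1 : g⁻¹ * x * g ∈ Q := conj_mem_sylow hg (hR (mem_zpowers x))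
  obtain ⟨d, hd, j, he⟩ := exists_mul_zpow hDx g⁻¹
  have h2 : g⁻¹ * x * g = d * x * d⁻¹ := by
    have : g = (d * x ^ j)⁻¹ := by rw [← he, inv_inv]
    rw [he, this]
    have hc : x ^ j * x = x * x ^ j := ((Commute.refl x).zpow_left j).eq
    calc d * x ^ j * x * (d * x ^ j)⁻¹ = d * (x ^ j * x) * (x ^ j)⁻¹ * d⁻¹ := by group
      _ = d * (x * x ^ j) * (x ^ j)⁻¹ * d⁻¹ := by rw [hc]
      _ = d * x * d⁻¹ := by group
  rw [h2] at h1
  have h3 := comm_of_mem (isolated_conj h.iso d) Q.isPGroup' h1 (hQ (mem_zpowers y))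
  refine ⟨d⁻¹ * y * d, ?_, ?_, ?_⟩
  · have h4 := (mem_normalizer_iff.1 (inv_mem (hDM hd)) y).1 hyM
    rwa [inv_inv] at h4
  · intro h4
    have h5 : y = 1 := by
      calc y = d * (d⁻¹ * y * d) * d⁻¹ := by group
        _ = 1 := by rw [h4]; group
    rw [h5, orderOf_one] at hy
    exact hp.out.one_lt.ne hy
  · calc x * (d⁻¹ * y * d) = d⁻¹ * (d * x * d⁻¹ * y) * d := by group
      _ = d⁻¹ * (y * (d * x * d⁻¹)) * d := by rw [h3]
      _ = d⁻¹ * y * d * x := by group

/-- The derived subgroup is not abelian. -/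
theorem MinCex.not_comm [Finite G] [hp : Fact p.Prime] (h : MinCex p x) :
    ¬ ∀ a ∈ commutator G, ∀ b ∈ commutator G, a * b = b * a := by
  intro hab
  set D := commutator G with hD
  have hDx : D ⊔ zpowers x = ⊤ := h.sup_commutator
  -- `x` and all its conjugates: `D⟨x⟩ = G`, `D` abelian; `D` is a `p`-group
  have hDp : IsPGroup p D := by
    -- the product of the Sylow subgroups for primes other than `p` is trivial
    rw [IsPGroup.iff_orderOf]
    intro a
    have hcop : ∀ (y : G), y ∈ D → (orderOf y).Coprime p → y = 1 := by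
      intro y hy hyp
      have h1 : (zpowers y).IsSubnormal := by
        refine Subgroup.IsSubnormal.step _ D (by rw [zpowers_le]; exact hy)
          (inferInstance : D.Normal).isSubnormal ?_
        refine ⟨fun z hz n => ?_⟩
        have : n * z * n⁻¹ = z := by
          apply Subtype.ext
          have := hab n n.2 z z.2
          simp only [coe_mul, coe_inv]
          rw [this, mul_inv_cancel_right]
        rw [this]; exact hz
      have h2 : zpowers y ≤ pPrimeCore p G :=
        SignalizersComponents.CompBasic.subnormal_coprime_le_pPrimeCore h1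
          (by rw [Nat.card_zpowers]; exact hyp)
      rw [h.core, le_bot_iff, zpowers_eq_bot] at h2
      exact h2
    obtain ⟨k, m, hm, hkm⟩ := Nat.exists_eq_pow_mul_and_not_dvd (orderOf_pos a).ne' p hp.out.ne_one
    refine ⟨k, ?_⟩
    have h1 := hcop ((a : G) ^ p ^ k) (D.pow_mem a.2 _) (by
      have h2 : orderOf (a : G) = p ^ k * m := by
        rw [← hkm]; exact orderOf_injective D.subtype D.subtype_injective a
      rw [orderOf_pow, h2, Nat.gcd_eq_right (Dvd.intro _ rfl),
        Nat.mul_div_cancel_left _ (pow_pos hp.out.pos k)]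
      exact ((Nat.Prime.coprime_iff_not_dvd hp.out).2 hm).symm)
    have h3 : orderOf a ∣ p ^ k := by
      rw [orderOf_dvd_iff_pow_eq_one]
      apply Subtype.ext
      rw [coe_pow, h1, coe_one]
    rw [hkm] at h3
    have h4 : m = 1 := by
      have h5 : m ∣ 1 := by
        have h6 : p ^ k * m ∣ p ^ k * 1 := by rwa [mul_one]
        exact Nat.dvd_of_mul_dvd_mul_left (pow_pos hp.out.pos k) h6
      exact Nat.dvd_one.1 h5
    rw [hkm, h4, mul_one]
  have hxk : IsPGroup p (zpowers x) := IsPGroup.of_card (n := 1)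
    (by rw [Nat.card_zpowers, h.ord, pow_one])
  have hG : IsPGroup p (⊤ : Subgroup G) := by
    rw [← hDx]
    exact hDp.to_sup_of_normal_left hxk
  apply h.not_central
  intro g
  exact (comm_of_mem h.iso hG (mem_top x) (mem_top g)).symm

/-- In a minimal counterexample the derived subgroup is simple. -/
theorem MinCex.simple [Finite G] [hp : Fact p.Prime] (h : MinCex p x) :
    IsSimpleGroup (commutator G) := by
  set D := commutator G with hD
  have hDx : D ⊔ zpowers x = ⊤ := h.sup_commutator
  have hDn : D.Normal := inferInstance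
  have key : ∀ M : Subgroup G, M ≤ D → D ≤ normalizer (M : Set G) → M ≠ ⊥ → M = D := by
    intro M hMD hDM hne
    -- a minimal such subgroup
    obtain ⟨K, ⟨hKM, hDK, hKne⟩, hKmin⟩ := (Set.toFinite {K : Subgroup G | K ≤ M ∧
      D ≤ normalizer (K : Set G) ∧ K ≠ ⊥}).exists_minimal ⟨M, le_rfl, hDM, hne⟩
    have hKD : K ≤ D := hKM.trans hMD
    have hsn : ∀ L : Subgroup G, L ≤ D → D ≤ normalizer (L : Set G) → L.IsSubnormal := by
      intro L hL hDL
      refine Subgroup.IsSubnormal.step _ D hL hDn.isSubnormal ?_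
      refine ⟨fun z hz n => ?_⟩
      rw [mem_subgroupOf] at hz ⊢
      exact (mem_normalizer_iff.1 (hDL n.2) z).1 hz
    suffices hKn : K.Normal by
      have h1 := h.sup_eq_top K hKne
      have h2 := commutator_le_of_sup h1
      exact le_antisymm hMD (h2.trans hKM)
    -- otherwise `K ∩ K^x = 1`
    obtain ⟨y, hyK, hy1, hxy⟩ := h.exists_comm hDx (hsn K hKD hDK) hDK hKne
    set K' : Subgroup G := K.map (MulAut.conj x).toMonoidHom with hK'
    have hDK' : D ≤ normalizer (K' : Set G) := by
      intro d hd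
      have h1 : x⁻¹ * d * x ∈ normalizer (K : Set G) := by
        apply hDK
        have := hDn.conj_mem d hd x⁻¹
        rwa [inv_inv] at this
      rw [mem_normalizer_iff] at h1 ⊢
      intro z
      have h2 : ∀ w : G, w ∈ K' ↔ x⁻¹ * w * x ∈ K := by
        intro w
        rw [hK', mem_map_equiv]
        simp [MulAut.conj_symm_apply]
      change z ∈ K' ↔ d * z * d⁻¹ ∈ K'
      rw [h2, h2, h1]
      have h3 : x⁻¹ * d * x * (x⁻¹ * z * x) * (x⁻¹ * d * x)⁻¹ = x⁻¹ * (d * z * d⁻¹) * x := by group
      rw [← h3]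
    have hyK' : y ∈ K ⊓ K' := by
      refine ⟨hyK, y, hyK, ?_⟩
      simp only [MulEquiv.coe_toMonoidHom, MulAut.conj_apply]
      rw [hxy, mul_inv_cancel_right]
    have h4 : K ≤ K ⊓ K' := by
      refine hKmin ⟨inf_le_left.trans hKM, ?_, ?_⟩ inf_le_left
      · intro d hd
        have h5 := mem_normalizer_iff.1 (hDK hd)
        have h6 := mem_normalizer_iff.1 (hDK' hd)
        rw [mem_normalizer_iff]
        intro z
        exact and_congr (h5 z) (h6 z)
      · intro h5
        rw [h5, mem_bot] at hyK'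
        exact hy1 hyK'
    have h5 : K ≤ K' := h4.trans inf_le_right
    have h6 : K = K' := by
      apply Subgroup.eq_of_le_of_card_ge h5
      rw [hK', Nat.card_congr (K.equivMapOfInjective _ (MulAut.conj x).injective).symm.toEquiv]
    have hxN : x ∈ normalizer (K : Set G) := by
      rw [mem_normalizer_iff]
      intro z
      have h7 : ∀ w : G, w ∈ K' ↔ x⁻¹ * w * x ∈ K := by
        intro w
        rw [hK', mem_map_equiv]
        simp [MulAut.conj_symm_apply]
      have h8 := h7 (x * z * x⁻¹)
      rw [← h6] at h8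
      have h9 : x⁻¹ * (x * z * x⁻¹) * x = z := by group
      rw [h9] at h8
      exact h8.symm
    rw [← normalizer_eq_top_iff, eq_top_iff, ← hDx, sup_le_iff, zpowers_le]
    exact ⟨hDK, hxN⟩
  have hnt : Nontrivial D := (nontrivial_iff_ne_bot D).2 h.commutator_ne_bot
  refine { eq_bot_or_eq_top_of_normal := fun H hH => ?_ }
  by_cases hHb : H = ⊥
  · exact Or.inl hHb
  right
  have h1 := key (H.map D.subtype) (map_subtype_le H) ?_ ?_
  · rw [eq_top_iff]
    intro z _
    have h2 : (z : G) ∈ H.map D.subtype := by rw [h1]; exact z.2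
    obtain ⟨w, hw, hwz⟩ := h2
    rw [← (Subtype.ext hwz : w = z)]
    exact hw
  · intro d hd
    rw [mem_normalizer_iff]
    intro z
    constructor
    · rintro ⟨w, hw, rfl⟩
      exact ⟨⟨d, hd⟩ * w * ⟨d, hd⟩⁻¹, hH.conj_mem w hw _, rfl⟩
    · rintro ⟨w, hw, he⟩
      refine ⟨⟨d, hd⟩⁻¹ * w * ⟨d, hd⟩, ?_, ?_⟩
      · have := hH.conj_mem w hw ⟨d, hd⟩⁻¹
        rwa [inv_inv] at this
      · simp only [subtype_apply] at he
        simp only [map_mul, map_inv, subtype_apply, he]
        group
  · rwa [Ne, map_eq_bot_iff_of_injective _ D.subtype_injective]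

/-- The centralizer of the derived subgroup is trivial. -/
theorem MinCex.centralizer_eq_bot [Finite G] [hp : Fact p.Prime] (h : MinCex p x) :
    centralizer (commutator G : Set G) = ⊥ := by
  by_contra hne
  have h1 := h.sup_eq_top (centralizer (commutator G : Set G)) hne
  have h2 := commutator_le_of_sup h1
  apply h.not_comm
  intro a ha b hb
  exact (mem_centralizer_iff.1 (h2 ha) b hb).symm

theorem inZStar_one (p : ℕ) : InZStar p (1 : G) := by
  intro g
  rw [mul_one, mul_inv_cancel, inv_one, one_mul]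
  exact one_mem _

/-- If there are no minimal counterexamples, there are no counterexamples of order `p`. -/
theorem of_min (p : ℕ) [hp : Fact p.Prime]
    (H : ∀ {G : Type u} [Group G] [Finite G] (x : G), ¬ MinCex p x) :
    ∀ (n : ℕ) {G : Type u} [Group G] [Finite G] (x : G), Nat.card G = n → orderOf x = p →
      IsIsolated x → InZStar p x := by
  intro n
  induction n using Nat.strong_induction_on with
  | _ n ih =>
    intro G _ _ x hn hx hiso
    by_contra hnz
    refine H x ⟨hx, hiso, hnz, ?_, ?_⟩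
    · intro K hxK hK
      refine ih (Nat.card K) ?_ _ rfl ?_ (isolated_subgroup hiso hxK)
      · rw [← hn]
        refine lt_of_le_of_ne (Nat.card_le_card_of_injective K.subtype K.subtype_injective) ?_
        intro he
        exact hK (K.eq_top_of_card_eq he)
      · rw [← hx]
        exact (orderOf_injective K.subtype K.subtype_injective ⟨x, hxK⟩).symm
    · intro N _ hN
      have hiso' := isolated_quotient hiso ⟨1, by rw [hx, pow_one]⟩ N
      have h1 : orderOf (QuotientGroup.mk x : G ⧸ N) ∣ p := by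
        rw [← hx]
        exact orderOf_map_dvd (QuotientGroup.mk' N) x
      rcases (Nat.dvd_prime hp.out).1 h1 with h2 | h2
      · rw [orderOf_eq_one_iff] at h2
        rw [h2]
        exact inZStar_one p
      · refine ih (Nat.card (G ⧸ N)) ?_ _ rfl h2 hiso'
        rw [← hn, N.card_eq_card_quotient_mul_card_subgroup]
        have h3 : 1 < Nat.card N := (one_lt_card_iff_ne_bot N).2 hN
        have h4 : 0 < Nat.card (G ⧸ N) := Nat.card_pos
        exact lt_mul_of_one_lt_right h4 h3

/-- The case of elements of order `p` implies the case of `p`-elements. -/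
theorem of_prime_order (p : ℕ) [hp : Fact p.Prime]
    (H : ∀ {G : Type u} [Group G] [Finite G] (x : G), orderOf x = p → IsIsolated x →
      InZStar p x) :
    ∀ (k : ℕ) {G : Type u} [Group G] [Finite G] (x : G), orderOf x ∣ p ^ k →
      IsIsolated x → InZStar p x := by
  intro k
  induction k with
  | zero =>
    intro G _ _ x hx _
    rw [pow_zero, Nat.dvd_one, orderOf_eq_one_iff] at hx
    rw [hx]
    exact inZStar_one p
  | succ k ih =>
    -- reduce to `O_{p'}(G) = 1`
    suffices key : ∀ {Q : Type u} [Group Q] [Finite Q] (y : Q), pPrimeCore p Q = ⊥ →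
        orderOf y ∣ p ^ (k + 1) → IsIsolated y → InZStar p y by
      intro G _ _ x hx hiso
      obtain ⟨j, -, hj⟩ := (Nat.dvd_prime_pow hp.out).1 hx
      exact inZStar_of_quotient (key _ (Lib.Cores.pPrimeCore_quotient_pPrimeCore p)
        ((orderOf_map_dvd (QuotientGroup.mk' (pPrimeCore p G)) x).trans hx)
        (isolated_quotient hiso ⟨j, hj⟩ _))
    intro Q _ _ y hO hy hiso
    by_cases hk : orderOf y ∣ p ^ k
    · exact ih y hk hiso
    obtain ⟨j, hj, hyj⟩ := (Nat.dvd_prime_pow hp.out).1 hy
    have hj1 : j = k + 1 := by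
      by_contra hne
      exact hk (hyj ▸ pow_dvd_pow p (by omega))
    subst hj1
    set z := y ^ p ^ k with hz
    have hzo : orderOf z = p := by
      rw [hz, orderOf_pow, hyj, Nat.gcd_eq_right (pow_dvd_pow p (Nat.le_succ k)),
        Nat.pow_div (Nat.le_succ k) hp.out.pos]
      have : k.succ - k = 1 := by omega
      rw [this, pow_one]
    have hziso : IsIsolated z := isolated_pow hiso ⟨_, hyj⟩ _
    have hzc : ∀ g : Q, Commute g z := fun g => central_of_inZStar hO (H z hzo hziso) g
    have hZn : (zpowers z).Normal := by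
      refine ⟨fun n hn g => ?_⟩
      obtain ⟨j, rfl⟩ := hn
      have h1 : g * z ^ j * g⁻¹ = z ^ j := by
        have : Commute g (z ^ j) := (hzc g).zpow_right j
        rw [this.eq, mul_inv_cancel_right]
      exact ⟨j, h1.symm⟩
    have hZp : IsPGroup p (zpowers z) :=
      IsPGroup.of_card (n := 1) (by rw [Nat.card_zpowers, hzo, pow_one])
    have hUle := comap_core_le hO hzc hZp
    have hq : InZStar p (QuotientGroup.mk y : Q ⧸ zpowers z) := by
      apply ih _ _ (isolated_quotient hiso ⟨_, hyj⟩ _)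
      rw [orderOf_dvd_iff_pow_eq_one, ← QuotientGroup.mk_pow, QuotientGroup.eq_one_iff]
      exact mem_zpowers z
    apply inZStar_of_central
    intro g
    have h3 : g * y * g⁻¹ * y⁻¹ ∈ (pPrimeCore p (Q ⧸ zpowers z)).comap
        (QuotientGroup.mk' (zpowers z)) := by
      rw [mem_comap]
      have := hq (QuotientGroup.mk g)
      simpa using this
    obtain ⟨j, hj⟩ := hUle h3
    have h4 : g * y * g⁻¹ = z ^ j * y := by
      simp only at hj
      rw [hj]; group
    have h5 : Commute y (g * y * g⁻¹) := by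
      rw [h4]
      exact ((hzc y).zpow_right j).mul_right (Commute.refl y)
    have h6 := hiso g h5
    calc g * y = (g * y * g⁻¹) * g := by group
      _ = y * g := by rw [h6]

end Cfsg.Agent.H256.ZRed
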