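import Cfsg.Agent.H256.ZBasic
import Cfsg.Agent.Lib.PGroupCoprimeAction
import Cfsg.Agent.H256.ZRed
set_option linter.all false

-- part: H256/ZSyl
section
/-!
# Isolated elements and invariant Sylow subgroups

* `exists_sylow_ge`: if `x` is a `p`-element, central modulo `O_{p'}(N)`, `q ≠ p`, then every
  `q`-subgroup of `N` normalized by `x` lies in a Sylow `q`-subgroup normalized by `x`;
* `exists_centralizer_conj`: `C_G(x)` is transitive on the Sylow `q`-subgroups normalized by the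
  isolated `p`-element `x` (no hypothesis on `q`).
-/

set_option autoImplicit false

namespace Cfsg.Agent.H256.ZSyl

open Subgroup Cfsg Cfsg.Agent.H256.ZBasic

/-- `q`-subgroups normalized by `x` lie in Sylow `q`-subgroups normalized by `x`, when `x` is a
`p`-element central modulo the `p'`-core. -/
theorem exists_sylow_ge {N : Type*} [Group N] [Finite N] {p q : ℕ} [hp : Fact p.Prime]
    [hq : Fact q.Prime] (hpq : q ≠ p) {x : N} (hx : ∃ k : ℕ, orderOf x = p ^ k)
    (hz : InZStar p x) {R : Subgroup N} (hR : IsPGroup q R)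
    (hxR : x ∈ normalizer (R : Set N)) :
    ∃ T : Sylow q N, x ∈ normalizer ((T : Subgroup N) : Set N) ∧ R ≤ (T : Subgroup N) := by
  obtain ⟨T, hT⟩ := hR.exists_le_sylow
  set O := pPrimeCore p N with hO
  have hOn : O.Normal := Lib.Cores.pPrimeCore_normal p
  set H : Subgroup N := O ⊔ (T : Subgroup N) with hH
  have hHx : ∀ b ∈ zpowers x, ∀ u ∈ H, b * u * b⁻¹ ∈ H := by
    -- `x` centralizes `N / O`
    have h1 : ∀ u : N, u ∈ H → x * u * x⁻¹ ∈ H := by
      intro u hu
      have h2 := hz u⁻¹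
      have h3 : x * u * x⁻¹ = u * (u⁻¹ * x * u * x⁻¹) := by group
      rw [h3]
      refine H.mul_mem hu (mem_sup_left ?_)
      rw [inv_inv] at h2
      exact h2
    have h2 : H.map (MulAut.conj x).toMonoidHom = H := by
      apply Subgroup.eq_of_le_of_card_ge
      · rintro _ ⟨u, hu, rfl⟩
        exact h1 u hu
      · rw [Nat.card_congr (H.equivMapOfInjective _ (MulAut.conj x).injective).symm.toEquiv]
    have h3 : x ∈ normalizer (H : Set N) := by
      rw [mem_normalizer_iff]
      intro u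
      refine ⟨h1 u, fun hu => ?_⟩
      rw [← h2] at hu
      obtain ⟨w, hw, he⟩ := hu
      have : w = u := (MulAut.conj x).injective he
      rwa [← this]
    have h4 : zpowers x ≤ normalizer (H : Set N) := by rw [zpowers_le]; exact h3
    intro b hb u hu
    exact (mem_normalizer_iff.1 (h4 hb) u).1 hu
  have hcard : ¬ p ∣ Nat.card H := by
    have h1 : Nat.card H ∣ Nat.card O * Nat.card (T : Subgroup N) := by
      rw [hH]; exact Lib.Cores.card_sup_dvd O (T : Subgroup N) hOn
    intro h2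
    rcases (Nat.Prime.dvd_mul hp.out).1 (h2.trans h1) with h3 | h3
    · have h4 := Lib.Cores.pPrimeCore_coprime (G := N) p
      exact (Nat.Prime.coprime_iff_not_dvd hp.out).1 h4.symm h3
    · obtain ⟨n, hn⟩ := IsPGroup.iff_card.1 T.isPGroup'
      rw [hn] at h3
      exact hpq ((Nat.prime_dvd_prime_iff_eq hp.out hq.out).1 (hp.out.dvd_of_dvd_pow h3)).symm
  have hA : IsPGroup p (zpowers x) := by
    obtain ⟨k, hk⟩ := hx
    exact IsPGroup.of_card (n := k) (by rw [Nat.card_zpowers, hk])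
  have hAR : ∀ b ∈ zpowers x, ∀ u ∈ R, b * u * b⁻¹ ∈ R := by
    have h4 : zpowers x ≤ normalizer (R : Set N) := by rw [zpowers_le]; exact hxR
    intro b hb u hu
    exact (mem_normalizer_iff.1 (h4 hb) u).1 hu
  obtain ⟨S, ⟨U, hU⟩, hS, hRS⟩ := Lib.PGroupCoprimeAction.exists_invariant_sylow_ge
    (A := zpowers x) (H := H) hA hcard hHx (hT.trans le_sup_right) hR hAR
  -- `S` is a Sylow subgroup of `N`
  have hSq : IsPGroup q S := by rw [← hU]; exact U.isPGroup'.map _
  have hScard : Nat.card (T : Subgroup N) ≤ Nat.card S := by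
    have h1 : Nat.card S = Nat.card (U : Subgroup H) := by
      rw [← hU, Nat.card_congr ((U : Subgroup H).equivMapOfInjective H.subtype
        H.subtype_injective).symm.toEquiv]
    have h2 : IsPGroup q ((T : Subgroup N).subgroupOf H) := T.isPGroup'.comap_subtype
    have h3 : Nat.card ((T : Subgroup N).subgroupOf H) = Nat.card (T : Subgroup N) :=
      Nat.card_congr (subgroupOfEquivOfLe (le_sup_right)).toEquiv
    rw [h1, ← h3]
    obtain ⟨V, hV⟩ := h2.exists_le_sylow
    have h4 : Nat.card (V : Subgroup H) = Nat.card (U : Subgroup H) := by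
      rw [V.card_eq_multiplicity, U.card_eq_multiplicity]
    rw [← h4]
    exact Nat.le_of_dvd Nat.card_pos (card_dvd_of_le hV)
  have hScard' : Nat.card S = q ^ (Nat.card N).factorization q := by
    rw [← T.card_eq_multiplicity]
    refine le_antisymm ?_ hScard
    obtain ⟨V, hV⟩ := hSq.exists_le_sylow
    have h4 : Nat.card (V : Subgroup N) = Nat.card (T : Subgroup N) := by
      rw [V.card_eq_multiplicity, T.card_eq_multiplicity]
    rw [← h4]
    exact Nat.le_of_dvd Nat.card_pos (card_dvd_of_le hV)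
  refine ⟨Sylow.ofCard S hScard', ?_, hRS⟩
  have h6 : S.map (MulAut.conj x).toMonoidHom = S := by
    apply Subgroup.eq_of_le_of_card_ge
    · rintro _ ⟨u, hu, rfl⟩
      exact hS x (mem_zpowers x) u hu
    · rw [Nat.card_congr (S.equivMapOfInjective _ (MulAut.conj x).injective).symm.toEquiv]
  rw [mem_normalizer_iff]
  intro u
  refine ⟨fun hu => hS x (mem_zpowers x) u hu, fun hu => ?_⟩
  have hu' : x * u * x⁻¹ ∈ S := hu
  rw [← h6] at hu'
  obtain ⟨w, hw, he⟩ := hu'
  have h7 : w = u := (MulAut.conj x).injective he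
  rw [← h7]
  exact hw

/-- `C_G(x)` is transitive on the Sylow `q`-subgroups normalized by the isolated `p`-element `x`. -/
theorem exists_centralizer_conj {G : Type*} [Group G] [Finite G] {p : ℕ} [Fact p.Prime] {x : G}
    (hiso : IsIsolated x) (hx : ∃ k : ℕ, orderOf x = p ^ k) {q : ℕ} [Fact q.Prime]
    (S₁ S₂ : Sylow q G) (h₁ : x ∈ normalizer ((S₁ : Subgroup G) : Set G))
    (h₂ : x ∈ normalizer ((S₂ : Subgroup G) : Set G)) :
    ∃ c ∈ centralizer ({x} : Set G),
      (S₁ : Subgroup G).map (MulAut.conj c).toMonoidHom = (S₂ : Subgroup G) := by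
  obtain ⟨g, hg⟩ := MulAction.exists_smul_eq G S₁ S₂
  have hg' : (S₁ : Subgroup G).map (MulAut.conj g).toMonoidHom = (S₂ : Subgroup G) := by
    rw [← hg, Sylow.coe_subgroup_smul]; rfl
  have hmem : ∀ w : G, w ∈ (S₂ : Subgroup G) ↔ g⁻¹ * w * g ∈ (S₁ : Subgroup G) := by
    intro w
    rw [← hg', mem_map_equiv]
    simp [MulAut.conj_symm_apply]
  have h3 : g * x * g⁻¹ ∈ normalizer ((S₂ : Subgroup G) : Set G) := by
    rw [mem_normalizer_iff] at h₁ ⊢
    intro w
    have h4 := h₁ (g⁻¹ * w * g)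
    change w ∈ (S₂ : Subgroup G) ↔ (g * x * g⁻¹) * w * (g * x * g⁻¹)⁻¹ ∈ (S₂ : Subgroup G)
    rw [hmem, hmem]
    have h5 : g⁻¹ * (g * x * g⁻¹ * w * (g * x * g⁻¹)⁻¹) * g = x * (g⁻¹ * w * g) * x⁻¹ := by group
    rw [h5]
    exact h4
  obtain ⟨h, hh, he⟩ := exists_conj_mem hiso hx h₂ h3
  refine ⟨h⁻¹ * g, ?_, ?_⟩
  · rw [mem_centralizer_singleton_iff]
    calc h⁻¹ * g * x = h⁻¹ * (g * x * g⁻¹) * g := by group
      _ = h⁻¹ * (h * x * h⁻¹) * g := by rw [he]
      _ = x * (h⁻¹ * g) := by group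
  · rw [mem_normalizer_iff] at hh
    ext w
    rw [mem_map_equiv]
    have h6 : (MulAut.conj (h⁻¹ * g)).symm w = g⁻¹ * (h * w * h⁻¹) * g := by
      rw [MulAut.conj_symm_apply]; group
    rw [h6, ← hmem]
    exact (hh w).symm

end Cfsg.Agent.H256.ZSyl
end

-- part: H256/ZMin
section
/-!
# Minimal counterexamples to the `Z*_p` statement: invariant Sylow subgroups

* `MinCex.maximal`: a maximal `x`-invariant `q`-subgroup is trivial or Sylow.
* `MinCex.exists_sylow`: if `x` normalizes a nontrivial `q`-subgroup `R`, then `R` lies in a Sylow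
  `q`-subgroup normalized by `x`.
-/

set_option autoImplicit false

namespace Cfsg.Agent.H256.ZMin

open Subgroup Cfsg Cfsg.Agent.H256.ZBasic Cfsg.Agent.H256.ZRed

universe u

variable {G : Type u} [Group G] [Finite G] {p : ℕ} [hp : Fact p.Prime] {x : G}

theorem le_sylow_of_normal {N : Type*} [Group N] [Finite N] {q : ℕ} [Fact q.Prime]
    {R : Subgroup N} (hR : IsPGroup q R) (hRn : R.Normal) (T : Sylow q N) :
    R ≤ (T : Subgroup N) :=
  (Lib.Cores.le_pCore hRn hR).trans (Lib.Cores.pCore_le_sylow T)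

/-- The normalizer of a nontrivial `q`-subgroup, `q ≠ p`, is proper. -/
theorem normalizer_ne_top (h : MinCex p x) {q : ℕ} [hq : Fact q.Prime] (hpq : q ≠ p)
    {Q : Subgroup G} (hQ : IsPGroup q Q) (hne : Q ≠ ⊥) : normalizer (Q : Set G) ≠ ⊤ := by
  intro htop
  have hQn : Q.Normal := normalizer_eq_top_iff.1 htop
  have h1 := dvd_card_of_ne_bot h.core hQn.isSubnormal hne
  obtain ⟨n, hn⟩ := IsPGroup.iff_card.1 hQ
  rw [hn] at h1
  exact hpq ((Nat.prime_dvd_prime_iff_eq hp.out hq.out).1 (hp.out.dvd_of_dvd_pow h1)).symm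

/-- In a minimal counterexample, a maximal `x`-invariant `q`-subgroup is trivial or Sylow. -/
theorem maximal (h : MinCex p x) {q : ℕ} [hq : Fact q.Prime] {Q : Subgroup G}
    (hQ : IsPGroup q Q) (hxQ : x ∈ normalizer (Q : Set G))
    (hmax : ∀ R : Subgroup G, IsPGroup q R → x ∈ normalizer (R : Set G) → Q ≤ R → R = Q) :
    Q = ⊥ ∨ ∃ S : Sylow q G, (S : Subgroup G) = Q := by
  by_cases hpq : q = p
  · subst hpq
    right
    have hxk : IsPGroup q (zpowers x) := IsPGroup.of_card (n := 1)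
      (by rw [Nat.card_zpowers, h.ord, pow_one])
    have h1 : IsPGroup q (zpowers x ⊔ Q : Subgroup G) :=
      IsPGroup.to_sup_of_normal_right' hxk hQ (by rw [zpowers_le]; exact hxQ)
    have hxm : x ∈ zpowers x ⊔ Q := mem_sup_left (mem_zpowers x)
    have h2 := hmax _ h1 (le_normalizer hxm) le_sup_right
    rw [h2] at hxm
    obtain ⟨S, hS⟩ := hQ.exists_le_sylow
    exact ⟨S, hmax _ S.isPGroup' (le_normalizer (hS hxm)) hS⟩
  · by_cases hne : Q = ⊥
    · exact Or.inl hne
    right
    set N := normalizer (Q : Set G) with hN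
    have hNt : N ≠ ⊤ := normalizer_ne_top h hpq hQ hne
    have hQN : Q ≤ N := le_normalizer
    have hz := h.sub N hxQ hNt
    have hQN' : IsPGroup q (Q.subgroupOf N) := hQ.comap_subtype
    have hQn : (Q.subgroupOf N).Normal := normal_in_normalizer
    obtain ⟨T, hxT, hQT⟩ := ZSyl.exists_sylow_ge hpq (x := (⟨x, hxQ⟩ : N))
      (by
        refine ⟨1, ?_⟩
        rw [pow_one, ← h.ord]
        exact (orderOf_injective N.subtype N.subtype_injective ⟨x, hxQ⟩).symm) hz hQN'
      (by rw [normalizer_eq_top_iff.2 hQn]; trivial)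
    have h1 : IsPGroup q ((T : Subgroup N).map N.subtype) := T.isPGroup'.map _
    have h2 : x ∈ normalizer (((T : Subgroup N).map N.subtype : Subgroup G) : Set G) := by
      rw [mem_normalizer_iff] at hxT ⊢
      intro w
      constructor
      · rintro ⟨t, ht, rfl⟩
        exact ⟨_, (hxT t).1 ht, rfl⟩
      · rintro ⟨t, ht, he⟩
        refine ⟨⟨x, hxQ⟩⁻¹ * t * ⟨x, hxQ⟩, (hxT _).2 ?_, ?_⟩
        · have : (⟨x, hxQ⟩ : N) * (⟨x, hxQ⟩⁻¹ * t * ⟨x, hxQ⟩) * (⟨x, hxQ⟩ : N)⁻¹ = t := by group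
          change (⟨x, hxQ⟩ : N) * (⟨x, hxQ⟩⁻¹ * t * ⟨x, hxQ⟩) * (⟨x, hxQ⟩ : N)⁻¹ ∈ T
          rw [this]; exact ht
        · simp only [subtype_apply] at he
          simp only [map_mul, map_inv, subtype_apply, he]
          group
    have h3 : Q ≤ (T : Subgroup N).map N.subtype := fun y hy => ⟨⟨y, hQN hy⟩, hQT hy, rfl⟩
    have h4 := hmax _ h1 h2 h3
    -- `Q` is a Sylow subgroup of its normalizer, so of `G`
    obtain ⟨S, hS⟩ := hQ.exists_le_sylow
    refine ⟨S, ?_⟩
    by_contra hne'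
    have hlt : Q < S := lt_of_le_of_ne hS (Ne.symm hne')
    have hSn : Group.IsNilpotent S := S.isPGroup'.isNilpotent
    have h5 : Q.subgroupOf S < ⊤ := by
      rw [lt_top_iff_ne_top, Ne, subgroupOf_eq_top]
      exact not_le_of_gt hlt
    obtain ⟨g, hg, hgQ⟩ := SetLike.exists_of_lt (Group.normalizerCondition_of_isNilpotent _ h5)
    apply hgQ
    rw [mem_subgroupOf]
    have hgN : (g : G) ∈ N := by
      rw [hN, mem_normalizer_iff]
      rw [mem_normalizer_iff] at hg
      intro w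
      constructor
      · intro hw
        exact (hg ⟨w, hS hw⟩).1 hw
      · intro hw
        have hwS : w ∈ S := by
          have h6 : (g : G)⁻¹ * ((g : G) * w * (g : G)⁻¹) * g ∈ S :=
            S.mul_mem (S.mul_mem (S.inv_mem g.2) (hS hw)) g.2
          have h7 : (g : G)⁻¹ * ((g : G) * w * (g : G)⁻¹) * g = w := by group
          rwa [h7] at h6
        exact (hg ⟨w, hwS⟩).2 hw
    -- `g` is a `q`-element of `N`, `T = Q` is normal in `N`
    have hTn : (T : Subgroup N) = Q.subgroupOf N := by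
      ext t
      rw [mem_subgroupOf, ← h4]
      constructor
      · intro ht; exact ⟨t, ht, rfl⟩
      · rintro ⟨t', ht', he⟩
        rw [← Subtype.ext he]; exact ht'
    have hgq : IsPGroup q (zpowers (⟨g, hgN⟩ : N)) := by
      obtain ⟨k, hk⟩ := (IsPGroup.iff_orderOf.1 S.isPGroup') g
      apply IsPGroup.of_card (n := k)
      rw [Nat.card_zpowers, ← hk]
      have h8 := orderOf_injective N.subtype N.subtype_injective ⟨g, hgN⟩
      have h9 := orderOf_injective (S : Subgroup G).subtype (subtype_injective _) g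
      rw [← h8, ← h9]; rfl
    obtain ⟨V, hV⟩ := hgq.exists_le_sylow
    have hTV : (T : Subgroup N) ≤ (V : Subgroup N) := by
      rw [hTn]; exact le_sylow_of_normal hQN' hQn V
    have hVT : (V : Subgroup N) = T := by
      have := T.is_maximal' V.isPGroup' hTV
      exact this
    have h10 : (⟨g, hgN⟩ : N) ∈ (T : Subgroup N) := by
      rw [← hVT]; exact hV (mem_zpowers _)
    rw [hTn, mem_subgroupOf] at h10
    exact h10

/-- A nontrivial `x`-invariant `q`-subgroup lies in an `x`-invariant Sylow `q`-subgroup. -/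
theorem exists_sylow (h : MinCex p x) {q : ℕ} [hq : Fact q.Prime] {R : Subgroup G}
    (hR : IsPGroup q R) (hxR : x ∈ normalizer (R : Set G)) (hne : R ≠ ⊥) :
    ∃ S : Sylow q G, R ≤ (S : Subgroup G) ∧ x ∈ normalizer ((S : Subgroup G) : Set G) := by
  obtain ⟨Q, ⟨hRQ, hQ, hxQ⟩, hQmax⟩ := (Set.toFinite {Q : Subgroup G | R ≤ Q ∧ IsPGroup q Q ∧
    x ∈ normalizer (Q : Set G)}).exists_maximal ⟨R, le_rfl, hR, hxR⟩
  rcases maximal h hQ hxQ (fun K hK hxK hQK =>
    le_antisymm (hQmax ⟨hRQ.trans hQK, hK, hxK⟩ hQK) hQK) with h1 | ⟨S, hS⟩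
  · rw [h1, le_bot_iff] at hRQ
    exact absurd hRQ hne
  · exact ⟨S, hS ▸ hRQ, hS ▸ hxQ⟩

end Cfsg.Agent.H256.ZMin
end
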